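import Groth.Agent.CurveGlueLib.Ample
import Groth.Agent.AmpleEmb.Compose
import Groth.Agent.ProjOverLib.Affine
import Groth.Agent.DimFormulaLib.Field
import Groth.Agent.DimFormulaLib.Misc
import Groth.Agent.FinGrpdLib.SubGrpd
import Mathlib.AlgebraicGeometry.Morphisms.SchemeTheoreticallyDominant

/-!
# Curves are quasi-projective, with completions having finite boundary
-/

set_option autoImplicit false
set_option linter.style.haveILetI false

universe u

open CategoryTheory CategoryTheory.Limits AlgebraicGeometry TopologicalSpace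

namespace Groth.Agent.CurveGlueLib

variable (k : Type u) [Field k] {X : Scheme.{u}} (q : X ⟶ Spec (CommRingCat.of k)) [LocallyOfFiniteType q]

theorem isNoetherian_of_field [QuasiCompact q] : IsNoetherian X :=
  haveI : IsLocallyNoetherian X := LocallyOfFiniteType.isLocallyNoetherian q
  haveI : CompactSpace X := QuasiCompact.compactSpace_of_compactSpace q
  {}

/-- Quasi-projectivity. -/
theorem exists_immersion [IsSeparated q] [QuasiCompact q] (hdim : topologicalKrullDim X ≤ 1) :
    ∃ (n : ℕ) (i : X ⟶ CohB1.ProjSpace n k), IsImmersion i ∧ QuasiCompact i ∧ i ≫ CohB1.ProjSpace.toSpec n k = q := by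
  haveI := isNoetherian_of_field k q
  haveI : X.IsSeparated := ⟨by rw [← terminal.comp_from q]; infer_instance⟩
  obtain ⟨L, hL⟩ := exists_isAmple (X := X) hdim
  obtain ⟨n, i, hi, hf⟩ := AmpleEmb.exists_immersion_of_isAmple q hL
  obtain ⟨e, he⟩ := ProjOverLib.exists_iso_polyProj n k
  refine ⟨n, i ≫ e.hom, inferInstance, inferInstance, ?_⟩
  rw [Category.assoc]
  exact (congrArg (i ≫ ·) he).trans hf

include q in
/-- A dense open bounds the dimension. -/
theorem dim_le_of_dense (U : X.Opens) (hd : Dense (U : Set X)) :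
    topologicalKrullDim X ≤ topologicalKrullDim U := by
  refine DimFormulaLib.topologicalKrullDim_le_of_components _ fun η hη => ?_
  haveI : IsLocallyNoetherian X := LocallyOfFiniteType.isLocallyNoetherian q
  have hηU : η ∈ U := DimFormulaLib.mem_of_dense U.2 hd hη
  let η' : U.toScheme := ⟨η, hηU⟩
  obtain ⟨a, t, -, ht, -, hh⟩ := DimFormulaLib.field_dims q η
  obtain ⟨a', t', -, ht', -, hh'⟩ := DimFormulaLib.field_dims (U.ι ≫ q) η'
  have htt : t' = t := by
    rw [DimFormulaLib.resTrdegAt_ι q] at ht'
    exact_mod_cast ht'.symm.trans ht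
  rw [DimFormulaLib.topologicalKrullDim_closure_singleton, hh, ← htt, ← hh']
  show _ ≤ topologicalKrullDim U.toScheme
  rw [DimLiftLib.topologicalKrullDim_eq]
  exact Order.height_le_krullDim η'

/-- Completion with finite boundary. -/
theorem exists_completion [IsSeparated q] [QuasiCompact q] (hdim : topologicalKrullDim X ≤ 1) :
    ∃ (d : ℕ) (Y : Scheme.{u}) (c : Y ⟶ CohB1.ProjSpace d k) (j : X ⟶ Y), IsClosedImmersion c ∧ IsOpenImmersion j ∧
      j ≫ c ≫ CohB1.ProjSpace.toSpec d k = q ∧ Dense (Set.range j.base) ∧ IsSchemeTheoreticallyDominant j ∧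
      (Set.range j.base)ᶜ.Finite ∧ topologicalKrullDim Y ≤ 1 ∧
      ∀ y ∈ (Set.range j.base)ᶜ, IsClosed ({y} : Set Y) ∧ ringKrullDim (Y.presheaf.stalk y) = 1 := by
  obtain ⟨d, i, hi, hqc, hq⟩ := exists_immersion k q hdim
  have hdense : Dense (Set.range i.toImage.base) := i.toImage.denseRange
  haveI : LocallyOfFiniteType (CohB1.ProjSpace.toSpec d k) := inferInstance
  haveI : QuasiCompact (CohB1.ProjSpace.toSpec d k) := inferInstance
  haveI := isNoetherian_of_field k (i.imageι ≫ CohB1.ProjSpace.toSpec d k)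
  haveI : IsSchemeTheoreticallyDominant i.toImage := FinGrpdLib.toImage_dominant i
  have hY : topologicalKrullDim i.image ≤ 1 := by
    refine (dim_le_of_dense k (i.imageι ≫ CohB1.ProjSpace.toSpec d k) i.toImage.opensRange hdense).trans ?_
    exact (IsHomeomorph.topologicalKrullDim_eq _ i.toImage.isoOpensRange.hom.homeomorph.isHomeomorph).symm.le.trans hdim
  obtain ⟨h1, h2⟩ := compl_props hY i.toImage.opensRange fun C hC => by
    obtain ⟨η, hη⟩ := QuasiSober.sober hC.1 (isClosed_of_mem_irreducibleComponents _ hC)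
    exact ⟨η, DimFormulaLib.mem_of_dense i.toImage.opensRange.2 hdense
      (fun w hw => Unibranch.max_of_component hC hη w hw), hη⟩
  refine ⟨d, i.image, i.imageι, i.toImage, inferInstance, inferInstance, ?_, hdense, inferInstance, h1, hY, h2⟩
  rw [← Category.assoc, i.toImage_imageι, hq]

end Groth.Agent.CurveGlueLib
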