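import Groth.Agent.CurveGlueLib.Proj
import Groth.Agent.CurveLib.Components
import Groth.Agent.AmpleLib.UnivClosed

/-!
# Divisors at finitely many boundary points, affineness of curves without proper components
-/

set_option autoImplicit false
set_option linter.style.haveILetI false
set_option backward.isDefEq.respectTransparency false

universe u

open CategoryTheory CategoryTheory.Limits AlgebraicGeometry TopologicalSpace IsLocalRing Opposite
open Groth.Agent.ParaFLib Groth.Agent.AmpleLib

namespace Groth.Agent.CurveGlueLib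

variable {X : Scheme.{u}}

theorem exists_param {R : Type u} [CommRing R] [IsLocalRing R] [IsNoetherianRing R] (h : ringKrullDim R = 1) :
    ∃ f ∈ maximalIdeal R, ∀ q : Ideal R, q.IsPrime → f ∈ q → q = maximalIdeal R := by
  have hfinm := minimalPrimes.finite_of_isNoetherianRing R
  haveI : Ring.KrullDimLE 1 R := Ring.krullDimLE_iff.mpr h.le
  suffices ∃ f ∈ maximalIdeal R, ∀ p ∈ minimalPrimes R, f ∉ p by
    obtain ⟨f, hf, hfp⟩ := this
    refine ⟨f, hf, fun q hq hfq => ?_⟩
    rcases (Ring.krullDimLE_one_iff.mp inferInstance) q hq with h | h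
    · exact absurd hfq (hfp q h)
    · exact IsLocalRing.eq_maximalIdeal h
  by_contra hcon
  push Not at hcon
  have hsub : (maximalIdeal R : Set R) ⊆ ⋃ p ∈ (hfinm.toFinset : Set (Ideal R)), (p : Set R) := fun f hf => by
    obtain ⟨p, hp, hfp⟩ := hcon f hf
    exact Set.mem_biUnion (hfinm.mem_toFinset.2 hp) hfp
  obtain ⟨p, hp, hle⟩ := (Ideal.subset_union_prime ⊤ ⊤ fun p hp _ _ =>
    Ideal.minimalPrimes_isPrime (hfinm.mem_toFinset.1 hp)).1 hsub
  have hp' := hfinm.mem_toFinset.1 hp
  haveI : Ring.KrullDimLE 0 R := by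
    refine Ring.krullDimLE_zero_iff.2 fun q hq => ?_
    have h1 : maximalIdeal R = p :=
      le_antisymm hle (IsLocalRing.le_maximalIdeal (Ideal.minimalPrimes_isPrime hp').ne_top)
    haveI := hq
    have h2 : q = maximalIdeal _ := le_antisymm (IsLocalRing.le_maximalIdeal hq.ne_top)
      (h1 ▸ hp'.2 ⟨hq, bot_le⟩ ((IsLocalRing.le_maximalIdeal hq.ne_top).trans h1.le))
    exact h2 ▸ maximalIdeal.isMaximal _
  have h0 := (Ring.krullDimLE_iff (R := R) (n := 0)).1 inferInstance
  rw [h] at h0
  exact absurd h0 (by norm_num)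

/-- An open with finite complement of closed points of codimension one is the locus of a section. -/
theorem exists_genLocus_boundary [IsNoetherian X] (U : X.Opens) (hfin : ((U : Set X)ᶜ).Finite)
    (hloc : ∀ x : X, x ∉ U → IsClosed ({x} : Set X) ∧ ringKrullDim (X.presheaf.stalk x) = 1) :
    ∃ (L : X.Modules) (s : Coh.structureModule X ⟶ L), PicF.IsInvertible L ∧ CohB1.genLocus L s = U := by
  classical
  let T : Type u := {x : X // x ∉ U}
  have hW : ∀ t : T, ∃ (W : X.Opens) (r : Γ(X, W)), t.1 ∈ W ∧ (∀ x ∈ W, x ∉ U → x = t.1) ∧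
      (∀ ht : t.1 ∈ W, ¬ IsUnit (X.presheaf.germ W t.1 ht r)) ∧
      ∀ (x : X) (hx : x ∈ W), x ∈ U → IsUnit (X.presheaf.germ W x hx r) := by
    intro t
    obtain ⟨f, hfm, honly⟩ := exists_param (hloc t.1 t.2).2
    obtain ⟨W₀, htW₀, r, hr⟩ := X.presheaf.germ_exist (x := t.1) f
    let Z : Set X := closure ((W₀ : Set X) \ (X.basicOpen r : Set X))
    obtain ⟨S, hSf, hSc, hSi, hS⟩ :=
      NoetherianSpace.exists_finite_set_isClosed_irreducible (show IsClosed Z from isClosed_closure)
    have hZ : ∀ z ∈ Z, z ∈ W₀ → z ∉ X.basicOpen r := by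
      intro z hz hzW hzr
      obtain ⟨y, hy, -, hy'⟩ := mem_closure_iff.1 hz _ (X.basicOpen r).2 hzr
      exact hy' hy
    have hcomp : ∀ A ∈ S, t.1 ∈ A → A = {t.1} := by
      intro A hA htA
      obtain ⟨g, hg⟩ := QuasiSober.sober (hSi A hA) (hSc A hA)
      have hgt : g ⤳ t.1 := hg.specializes htA
      have hgW : g ∈ W₀ := hgt.mem_open W₀.2 htW₀
      have hnu : ¬ IsUnit (X.presheaf.stalkSpecializes hgt f) := by
        rw [← hr]
        erw [X.presheaf.germ_stalkSpecializes_apply htW₀ hgt r]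
        exact fun hu => hZ g (hS.ge ⟨A, hA, hg.mem⟩) hgW ((X.mem_basicOpen r g hgW).2 hu)
      have hq := honly ((maximalIdeal (X.presheaf.stalk g)).comap (X.presheaf.stalkSpecializes hgt).hom)
        inferInstance hnu
      have hpt : Spec.map (X.presheaf.stalkSpecializes hgt) (closedPoint (X.presheaf.stalk g)) =
          closedPoint (X.presheaf.stalk t.1) := PrimeSpectrum.ext hq
      have h1 : X.fromSpecStalk g (closedPoint (X.presheaf.stalk g)) =
          X.fromSpecStalk t.1 (closedPoint (X.presheaf.stalk t.1)) := by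
        rw [← hpt, ← Scheme.SpecMap_stalkSpecializes_fromSpecStalk hgt]
        rfl
      rw [Scheme.fromSpecStalk_closedPoint, Scheme.fromSpecStalk_closedPoint] at h1
      rw [← hg.def, h1, (hloc t.1 t.2).1.closure_eq]
    have hbad : IsClosed (⋃₀ {A ∈ S | t.1 ∉ A} ∪ ((U : Set X)ᶜ \ {t.1})) := by
      refine ((hSf.subset (Set.sep_subset _ _)).isClosed_biUnion (f := id) fun A hA => hSc A hA.1).union ?_ |>
        fun h => by simpa [Set.sUnion_eq_biUnion] using h
      rw [← Set.biUnion_of_singleton ((U : Set X)ᶜ \ {t.1})]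
      exact (hfin.subset Set.diff_subset).isClosed_biUnion fun x hx => (hloc x hx.1).1
    let W : X.Opens := W₀ ⊓ ⟨_, hbad.isOpen_compl⟩
    have hWle : W ≤ W₀ := inf_le_left
    refine ⟨W, X.presheaf.map (homOfLE hWle).op r, ⟨htW₀, ?_⟩, fun x hx hxU => ?_, fun ht hu => ?_,
      fun x hx hxU => ?_⟩
    · rintro (⟨A, ⟨-, hA⟩, htA⟩ | h)
      · exact hA htA
      · exact h.2 rfl
    · by_contra hne
      exact hx.2 (Or.inr ⟨hxU, hne⟩)
    · rw [TopCat.Presheaf.germ_res_apply] at hu
      exact hfm (hr ▸ hu)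
    · rw [TopCat.Presheaf.germ_res_apply]
      by_contra hnu
      obtain ⟨A, hA, hxA⟩ := hS.le (subset_closure ⟨hx.1, fun hb => hnu ((X.mem_basicOpen r x hx.1).1 hb)⟩)
      by_cases htA : t.1 ∈ A
      · rw [hcomp A hA htA] at hxA
        exact t.2 ((Set.mem_singleton_iff.1 hxA) ▸ hxU)
      · exact hx.2 (Or.inl ⟨A, ⟨hA, htA⟩, hxA⟩)
  choose W r htW hWT hnu hu using hW
  let O : Option T → X.Opens := fun i => i.elim U W
  let c : ∀ i : Option T, Γ(X, O i) := fun i => match i with
    | none => (1 : Γ(X, U))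
    | some t => r t
  have hsub : ∀ (i j : Option T), i ≠ j → O i ⊓ O j ≤ U := by
    rintro (_ | t) (_ | t') hne x hx
    · exact hx.1
    · exact hx.1
    · exact hx.2
    · by_contra hxU
      exact hne (congrArg some (Subtype.ext ((hWT t x hx.1 hxU).symm.trans (hWT t' x hx.2 hxU))))
  have hcu : ∀ (i : Option T) (x : X) (hx : x ∈ O i), x ∈ U → IsUnit (X.presheaf.germ (O i) x hx (c i)) := by
    rintro (_ | t) x hx hxU
    · exact isUnit_one.map (X.presheaf.germ U x hx).hom
    · exact hu t x hx hxU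
  have hη : ∀ i j : Option T, ∃ η : (Γ(X, O i ⊓ O j))ˣ, (i = j → η = 1) ∧ ∀ (x : X) (hx : x ∈ O i ⊓ O j),
      X.presheaf.germ (O i) x hx.1 (c i) * X.presheaf.germ (O i ⊓ O j) x hx (η : Γ(X, O i ⊓ O j)) =
        X.presheaf.germ (O j) x hx.2 (c j) := by
    intro i j
    by_cases hij : i = j
    · subst hij
      exact ⟨1, fun _ => rfl, fun x hx => by rw [Units.val_one, map_one, mul_one]⟩
    · have hi : IsUnit (X.presheaf.map (homOfLE (inf_le_left : O i ⊓ O j ≤ O i)).op (c i)) :=
        RingedSpace.isUnit_of_isUnit_germ _ _ _ fun x hx => by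
          erw [TopCat.Presheaf.germ_res_apply]
          exact hcu i x hx.1 (hsub i j hij hx)
      have hj : IsUnit (X.presheaf.map (homOfLE (inf_le_right : O i ⊓ O j ≤ O j)).op (c j)) :=
        RingedSpace.isUnit_of_isUnit_germ _ _ _ fun x hx => by
          erw [TopCat.Presheaf.germ_res_apply]
          exact hcu j x hx.2 (hsub i j hij hx)
      refine ⟨hi.unit⁻¹ * hj.unit, fun h => absurd h hij, fun x hx => ?_⟩
      have := congrArg (X.presheaf.germ (O i ⊓ O j) x hx) (show
        X.presheaf.map (homOfLE (inf_le_left : O i ⊓ O j ≤ O i)).op (c i) * ((hi.unit⁻¹ * hj.unit : (Γ(X, O i ⊓ O j))ˣ) : Γ(X, O i ⊓ O j)) =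
          X.presheaf.map (homOfLE (inf_le_right : O i ⊓ O j ≤ O j)).op (c j) by
        rw [Units.val_mul, ← mul_assoc, IsUnit.mul_val_inv, one_mul, IsUnit.unit_spec])
      rwa [map_mul, TopCat.Presheaf.germ_res_apply, TopCat.Presheaf.germ_res_apply] at this
  choose η hη1 hηc using hη
  have hcoc : IsCocycle O η := by
    intro i j k
    refine TopCat.Presheaf.section_ext X.sheaf _ _ _ fun x hx => ?_
    rw [map_mul]
    erw [TopCat.Presheaf.germ_res_apply, TopCat.Presheaf.germ_res_apply, TopCat.Presheaf.germ_res_apply]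
    by_cases hij : i = j
    · subst hij
      rw [hη1 i i rfl, Units.val_one, map_one, one_mul]
    by_cases hjk : j = k
    · subst hjk
      rw [hη1 j j rfl, Units.val_one, map_one, mul_one]
    have hxU : x ∈ U := hsub i j hij hx.1
    refine (hcu i x hx.1.1 hxU).mul_right_injective ?_
    show _ * _ = _ * _
    rw [← mul_assoc]
    erw [hηc i k x ⟨hx.1.1, hx.2⟩, hηc i j x hx.1, hηc j k x ⟨hx.1.2, hx.2⟩]
  have hO : iSup O = ⊤ := top_le_iff.1 fun x _ => by
    by_cases hxU : x ∈ U
    · exact Opens.mem_iSup.2 ⟨none, hxU⟩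
    · exact Opens.mem_iSup.2 ⟨some ⟨x, hxU⟩, htW ⟨x, hxU⟩⟩
  obtain ⟨L, s, hL, hs, hss⟩ := exists_invertible_of_cocycle O η hO hcoc
  let F : TopCat.Sheaf Ab.{u} X.carrier := ⟨L.presheaf, L.isSheaf⟩
  obtain ⟨σ, hσ, -⟩ := F.existsUnique_gluing' O ⊤ (fun i => homOfLE le_top) hO.ge (fun i => c i • s i) (by
    intro i j
    show L.presheaf.map (homOfLE (inf_le_left : O i ⊓ O j ≤ O i)).op (c i • s i) =
      L.presheaf.map (homOfLE (inf_le_right : O i ⊓ O j ≤ O j)).op (c j • s j)
    rw [L.map_smul, L.map_smul, hss i j, ← mul_smul]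
    refine congrArg (fun a : Γ(X, O i ⊓ O j) => a • L.presheaf.map (homOfLE inf_le_right).op (s j)) ?_
    refine TopCat.Presheaf.section_ext X.sheaf _ _ _ fun x hx => ?_
    rw [map_mul]
    erw [TopCat.Presheaf.germ_res_apply, TopCat.Presheaf.germ_res_apply]
    exact hηc i j x hx)
  have hloc' : ∀ i, CohB1.genLocus L (DCohLib.secHom L σ) ⊓ O i = X.basicOpen (c i) := fun i =>
    genLocus_inf_eq_basicOpen _ (hs i) (by rw [sec_secHom]; exact (hσ i).symm)
  refine ⟨L, DCohLib.secHom L σ, hL, ?_⟩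
  ext x
  constructor
  · intro hx
    by_contra hxU
    have h1 : x ∈ X.basicOpen (r ⟨x, hxU⟩) := (hloc' (some ⟨x, hxU⟩)).le ⟨hx, htW ⟨x, hxU⟩⟩
    exact hnu ⟨x, hxU⟩ (htW ⟨x, hxU⟩) ((X.mem_basicOpen _ x (htW ⟨x, hxU⟩)).1 h1)
  · intro hx
    exact ((hloc' none).ge ((X.mem_basicOpen (c none) x hx).2 (hcu none x hx hx))).1

/-- A curve none of whose one-dimensional closed integral subschemes is proper is affine. -/
theorem isAffine_of_no_proper (k : Type u) [Field k] (q : X ⟶ Spec (CommRingCat.of k)) [LocallyOfFiniteType q]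
    [IsSeparated q] [QuasiCompact q] (hdim : topologicalKrullDim X ≤ 1)
    (h : ∀ (C : Set X) (hC : IsClosed C), IsIrreducible C → topologicalKrullDim C = 1 →
      ¬ IsProper ((Scheme.IdealSheafData.vanishingIdeal (⟨C, hC⟩ : Closeds X)).subschemeι ≫ q)) :
    IsAffine X := by
  obtain ⟨d, Y, c, j, hc, hj, hq, -, -, hfin, hY, hbd⟩ := exists_completion k q hdim
  letI : Y.Over (Spec (CommRingCat.of k)) := ⟨c ≫ CohB1.ProjSpace.toSpec d k⟩
  haveI : IsProper (Y ↘ Spec (CommRingCat.of k)) := inferInstanceAs (IsProper (c ≫ CohB1.ProjSpace.toSpec d k))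
  haveI := EulerIneqLib.isNoetherian_proper (X := Y) k
  obtain ⟨L, s, hL, hs⟩ := exists_genLocus_boundary j.opensRange hfin hbd
  have hamp : CohB1.IsAmple L := by
    refine CurveLib.isAmple_of_deg_pos k hY hL fun C hC hirr hd => ?_
    let J := Scheme.IdealSheafData.vanishingIdeal (⟨C, hC⟩ : Closeds Y)
    haveI : IsIntegral J.subscheme := CurveLib.isIntegral_vanishingIdeal hC hirr
    letI : J.subscheme.Over (Spec (CommRingCat.of k)) := ⟨J.subschemeι ≫ (Y ↘ Spec (CommRingCat.of k))⟩
    haveI : IsProper (J.subscheme ↘ Spec (CommRingCat.of k)) :=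
      inferInstanceAs (IsProper (J.subschemeι ≫ (Y ↘ Spec (CommRingCat.of k))))
    have hr : Set.range J.subschemeι = C := by
      rw [Scheme.IdealSheafData.range_subschemeι, Scheme.IdealSheafData.coe_support_vanishingIdeal]
      rfl
    obtain ⟨g, hg⟩ := QuasiSober.sober hirr hC
    have hgX : g ∈ j.opensRange := by
      by_contra hgX
      have hCg : C = {g} := by rw [← hg.def, (hbd g hgX).1.closure_eq]
      have : topologicalKrullDim C = 0 := by
        rw [hCg, ← closure_eq_iff_isClosed.2 (hbd g hgX).1]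
        rw [DimFormulaLib.topologicalKrullDim_closure_singleton, Order.height_eq_zero.2 fun w hw => ?_]
        · rfl
        · have h1 : g ⤳ w := hw
          rw [show w = g from Set.mem_singleton_iff.1 (h1.mem_closed (hbd g hgX).1 rfl)]
      rw [hd] at this
      exact one_ne_zero this
    obtain ⟨y, hyC, hyX⟩ : ∃ y ∈ C, y ∉ j.opensRange := by
      by_contra hcon
      push Not at hcon
      have hC' : IsClosed (j ⁻¹' C) := hC.preimage j.continuous
      have himg : j '' (j ⁻¹' C) = C := Set.image_preimage_eq_of_subset hcon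
      have hirr' : IsIrreducible (j ⁻¹' C) := by
        refine ⟨?_, hirr.isPreirreducible.preimage j.isOpenEmbedding⟩
        obtain ⟨z, hz⟩ := hgX
        exact ⟨z, show j z ∈ C from hz.symm ▸ hg.mem⟩
      let e : (j ⁻¹' C) ≃ₜ C :=
        (j.isOpenEmbedding.isEmbedding.homeomorphImage _).trans (Homeomorph.setCongr himg)
      refine h _ hC' hirr' (e.isHomeomorph.topologicalKrullDim_eq.trans hd) ?_
      let K := Scheme.IdealSheafData.vanishingIdeal (⟨_, hC'⟩ : Closeds X)
      haveI : IsClosedImmersion (K.subschemeι ≫ j) := by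
        refine IsClosedImmersion.of_isPreimmersion _ ?_
        rw [Scheme.Hom.comp_base, TopCat.coe_comp, Set.range_comp, Scheme.IdealSheafData.range_subschemeι,
          Scheme.IdealSheafData.coe_support_vanishingIdeal]
        exact himg.symm ▸ hC
      rw [← hq, ← Category.assoc]
      infer_instance
    have hs' : pullS J.subschemeι s ≠ 0 := by
      intro h0
      obtain ⟨z, hz⟩ : g ∈ Set.range J.subschemeι := hr.ge hg.mem
      have hz' : z ∈ CohB1.genLocus _ (pullS J.subschemeι s) := by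
        rw [genLocus_pullS _ hL, hs]
        show J.subschemeι z ∈ j.opensRange
        rw [hz]
        exact hgX
      have h1 := (mem_genLocus_iff (isInvertible_pullback _ hL)).1 hz'
      rw [h0, show sec (0 : Coh.structureModule J.subscheme ⟶ (Scheme.Modules.pullback J.subschemeι).obj L) = 0 from rfl,
        map_zero] at h1
      exact zero_ne_one (h1.1 ((smul_zero _).trans (smul_zero _).symm) : (0 : J.subscheme.presheaf.stalk z) = 1)
    obtain ⟨h1, h2⟩ := CurveLib.deg_le_of_ne_zero (k := k) ((CurveLib.dim_vanishingIdeal hC).trans hd).le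
      ParaFLib.isInvertible_structureModule (isInvertible_pullback J.subschemeι hL) hs'
    rw [CurveLib.deg_structureModule] at h1 h2
    refine lt_of_le_of_ne h1 fun he => hyX ?_
    haveI := h2 he
    obtain ⟨z, hz⟩ := hr.ge hyC
    have hz' : z ∈ CohB1.genLocus _ (pullS J.subschemeι s) := Opens.mem_sSup.2 ⟨⊤,
      inferInstanceAs (IsIso ((Scheme.Modules.restrictFunctor (⊤ : J.subscheme.Opens).ι).map (pullS J.subschemeι s))),
      trivial⟩
    rw [genLocus_pullS _ hL, hs] at hz'
    exact hz ▸ hz'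
  have haff := isAffineOpen_genLocus_of_universallyClosed (Y ↘ Spec (CommRingCat.of k)) hamp s
  rw [hs] at haff
  haveI : IsAffine (j.opensRange : Scheme.{u}) := haff
  exact .of_isIso j.isoOpensRange.hom

end Groth.Agent.CurveGlueLib
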