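import Groth.Agent.CurveGlueLib.Glue
import Groth.Agent.AmpleLib.FinProd
import Groth.Agent.DimLiftLib.Basic
import Groth.Agent.S7386

/-!
# Ample modules on separated Noetherian schemes of dimension one
-/

set_option autoImplicit false
set_option linter.style.haveILetI false

universe u

open CategoryTheory CategoryTheory.Limits AlgebraicGeometry TopologicalSpace

namespace Groth.Agent.CurveGlueLib

variable {X : Scheme.{u}}

theorem coheight_le_one (hdim : topologicalKrullDim X ≤ 1) (x : X) : Order.coheight x ≤ 1 := by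
  have h : (Order.coheight x : WithBot ℕ∞) ≤ topologicalKrullDim X := by
    rw [DimLiftLib.topologicalKrullDim_eq]
    exact Order.coheight_le_krullDim x
  exact WithBot.coe_le_coe.1 (h.trans hdim)

theorem lt_of_specializes {x y : X} (h : x ⤳ y) (hne : x ≠ y) : y < x :=
  lt_of_le_not_ge (show y ≤ x from h) fun h' => hne (Inseparable.eq (Specializes.antisymm h h'))

/-- Outside an open dense affine the points are closed, of codimension one, and finitely many. -/
theorem compl_props [NoetherianSpace X] (hdim : topologicalKrullDim X ≤ 1) (U : X.Opens)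
    (hU : ∀ C ∈ irreducibleComponents (X : Type u), ∃ η ∈ U, IsGenericPoint η C) :
    ((U : Set X)ᶜ).Finite ∧ ∀ y : X, y ∉ U → IsClosed ({y} : Set X) ∧ ringKrullDim (X.presheaf.stalk y) = 1 := by
  have hpts : ∀ y : X, y ∉ U → IsClosed ({y} : Set X) ∧ ringKrullDim (X.presheaf.stalk y) = 1 := by
    intro y hy
    obtain ⟨η, hηU, hη⟩ := hU (irreducibleComponent y) (irreducibleComponent_mem_irreducibleComponents y)
    have hne : η ≠ y := fun h => hy (h ▸ hηU)
    have hlt : y < η := lt_of_specializes (hη.specializes mem_irreducibleComponent) hne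
    have h1 : Order.coheight y = 1 := le_antisymm (coheight_le_one hdim y)
      (Order.one_le_iff_pos.2 (pos_iff_ne_zero.2 fun h0 => hlt.not_ge ((Order.coheight_eq_zero.1 h0) hlt.le)))
    refine ⟨?_, by rw [ringKrullDim_stalk_eq_coheight, h1]; rfl⟩
    rw [← closure_eq_iff_isClosed]
    refine Set.Subset.antisymm (fun z hz => by_contra fun hzy => ?_) subset_closure
    have hlt' : z < y := lt_of_specializes (specializes_iff_mem_closure.2 hz) (Ne.symm hzy)
    have := Order.coheight_strictAnti hlt' (by rw [h1]; exact WithTop.one_lt_top)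
    rw [h1] at this
    exact absurd (coheight_le_one hdim z) this.not_ge
  refine ⟨?_, hpts⟩
  obtain ⟨S, hSf, hSc, hSi, hS⟩ := NoetherianSpace.exists_finite_set_isClosed_irreducible
    (show IsClosed ((U : Set X)ᶜ) from U.2.isClosed_compl)
  rw [hS]
  refine hSf.sUnion fun t ht => ?_
  obtain ⟨g, hg⟩ := QuasiSober.sober (hSi t ht) (hSc t ht)
  have hgU : g ∉ U := fun h => (hS.ge ⟨t, ht, hg.mem⟩ : g ∈ (U : Set X)ᶜ) h
  rw [← hg.def, (hpts g hgU).1.closure_eq]
  exact Set.finite_singleton g

/-- Every point has an affine neighbourhood with finite complement of codimension one points. -/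
theorem exists_affine_nhd [IsNoetherian X] (hdim : topologicalKrullDim X ≤ 1) (x : X) :
    ∃ U : X.Opens, IsAffineOpen U ∧ x ∈ U ∧ ((U : Set X)ᶜ).Finite ∧
      (∀ y : X, y ∉ U → IsClosed ({y} : Set X) ∧ ringKrullDim (X.presheaf.stalk y) = 1) := by
  classical
  have hfin := NoetherianSpace.finite_irreducibleComponents (α := X)
  haveI := hfin.fintype
  let e := Fintype.equivFin (irreducibleComponents (X : Type u))
  choose η hη using fun i => QuasiSober.sober (e.symm i).2.1 (isClosed_of_mem_irreducibleComponents _ (e.symm i).2)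
  obtain ⟨U, hU, hxU, hηU⟩ := S7386.result X η (fun i => (hη i).def.symm ▸ (e.symm i).2) x
  obtain ⟨h1, h2⟩ := compl_props hdim U fun C hC => by
    refine ⟨η (e ⟨C, hC⟩), hηU _, ?_⟩
    have := hη (e ⟨C, hC⟩)
    rwa [e.symm_apply_apply] at this
  exact ⟨U, hU, hxU, h1, h2⟩

/-- A separated Noetherian scheme of dimension at most one has an ample invertible module. -/
theorem exists_isAmple [IsNoetherian X] [X.IsSeparated] (hdim : topologicalKrullDim X ≤ 1) :
    ∃ L : X.Modules, CohB1.IsAmple L :=
  AmpleLib.exists_isAmple_of_cover fun x => by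
    obtain ⟨U, hU, hxU, hfin, hpts⟩ := exists_affine_nhd hdim x
    obtain ⟨L, s, hL, hG, hs⟩ := exists_gg_genLocus U hU hfin fun y hy => ⟨inferInstance, (hpts y hy).2⟩
    exact ⟨L, s, hL, hG, hs.symm ▸ hxU, hs.symm ▸ hU⟩

end Groth.Agent.CurveGlueLib
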