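import Groth.Agent.PullbackMod.Flat
import Mathlib.AlgebraicGeometry.Morphisms.Separated
import Mathlib.AlgebraicGeometry.Morphisms.ClosedImmersion

/-!
# Functions on an intersection of affine opens of a separated scheme
-/

set_option autoImplicit false
set_option linter.style.haveILetI false
set_option backward.isDefEq.respectTransparency false

universe u

open CategoryTheory CategoryTheory.Limits AlgebraicGeometry TopologicalSpace

namespace Groth.Agent.CurveGlueLib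

/-- The functions on two affine opens generate those on the intersection. -/
theorem mem_closure_of_inf {X : Scheme.{u}} [X.IsSeparated] {U V : X.Opens} (hU : IsAffineOpen U) (hV : IsAffineOpen V)
    (z : Γ(X, U ⊓ V)) :
    z ∈ Subring.closure (Set.range (X.presheaf.map (homOfLE (inf_le_left : U ⊓ V ≤ U)).op) ∪
      Set.range (X.presheaf.map (homOfLE (inf_le_right : U ⊓ V ≤ V)).op)) := by
  haveI : IsAffine (U : Scheme.{u}) := hU
  haveI : IsAffine (V : Scheme.{u}) := hV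
  let t := terminal.from X
  let P := pullback (U.ι ≫ t) (V.ι ≫ t)
  let j : ((U ⊓ V : X.Opens) : Scheme.{u}) ⟶ P :=
    (isPullback_opens_inf U V).isoPullback.hom ≫ pullback.mapDesc U.ι V.ι t
  haveI : IsClosedImmersion j := inferInstance
  have hj₁ : j ≫ pullback.fst (U.ι ≫ t) (V.ι ≫ t) ≫ U.ι = (U ⊓ V).ι := by
    simp [j]
  have hj₂ : j ≫ pullback.snd (U.ι ≫ t) (V.ι ≫ t) ≫ V.ι = (U ⊓ V).ι := by
    simp [j]
  set p := pullback.fst (U.ι ≫ t) (V.ι ≫ t) with hp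
  set q := pullback.snd (U.ι ≫ t) (V.ι ≫ t) with hq
  have e₀ : ∀ {A : X.Opens}, (⊤ : (A : Scheme.{u}).Opens) ≤ A.ι ⁻¹ᵁ A := fun {A} x _ => x.2
  have hinj : Function.Injective ((U ⊓ V).ι.appLE (U ⊓ V) ⊤ e₀) := by
    have : (U ⊓ V).ι.appLE (U ⊓ V) ⊤ e₀ = (U ⊓ V).topIso.inv := by
      simp [Scheme.Opens.ι_appLE, Scheme.Opens.topIso, Scheme.Opens.toScheme] <;> rfl
    rw [this]
    exact (ConcreteCategory.bijective_of_isIso (U ⊓ V).topIso.inv).1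
  obtain ⟨w, hw⟩ := j.app_surjective ⊤ (isAffineOpen_top P) ((U ⊓ V).ι.appLE (U ⊓ V) ⊤ e₀ z)
  haveI : IsAffine (⊤_ Scheme.{u}) := inferInstance
  obtain ⟨-, hpo⟩ := PullbackMod.isPushout_appLE (IsPullback.of_hasPullback (U.ι ≫ t) (V.ι ≫ t)) (V := ⊤)
    (W := ⊤) (V' := ⊤) (isAffineOpen_top _) (isAffineOpen_top _) (isAffineOpen_top _) le_top le_top
  let B := Subring.closure (Set.range (X.presheaf.map (homOfLE (inf_le_left : U ⊓ V ≤ U)).op) ∪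
      Set.range (X.presheaf.map (homOfLE (inf_le_right : U ⊓ V ≤ V)).op))
  let W' : P.Opens := p ⁻¹ᵁ ⊤ ⊓ q ⁻¹ᵁ ⊤
  have hjW : (⊤ : ((U ⊓ V : X.Opens) : Scheme.{u}).Opens) ≤ j ⁻¹ᵁ W' := fun x _ => ⟨trivial, trivial⟩
  let ev : Γ(P, W') →+* Γ(((U ⊓ V : X.Opens) : Scheme.{u}), ⊤) := (j.appLE W' ⊤ hjW).hom
  have hU' : ∀ a : Γ((U : Scheme.{u}), ⊤), ∃ a' : Γ(X, U),
      ev ((p.appLE ⊤ W' inf_le_left) a) = (U ⊓ V).ι.appLE (U ⊓ V) ⊤ e₀ (X.presheaf.map (homOfLE inf_le_left).op a') := by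
    intro a
    obtain ⟨a', rfl⟩ := (ConcreteCategory.bijective_of_isIso U.topIso.inv).2 a
    refine ⟨a', ?_⟩
    have : U.topIso.inv = U.ι.appLE U ⊤ e₀ := by
      simp [Scheme.Opens.ι_appLE, Scheme.Opens.topIso, Scheme.Opens.toScheme] <;> rfl
    rw [this, ← CommRingCat.comp_apply, ← CommRingCat.comp_apply (X.presheaf.map _)]
    show ((U.ι.appLE U ⊤ e₀ ≫ p.appLE ⊤ W' inf_le_left) ≫ j.appLE W' ⊤ hjW) a' = _
    rw [Scheme.Hom.appLE_comp_appLE, Scheme.Hom.appLE_comp_appLE, Scheme.Hom.map_appLE]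
    simp only [hj₁]
  have hV' : ∀ a : Γ((V : Scheme.{u}), ⊤), ∃ a' : Γ(X, V),
      ev ((q.appLE ⊤ W' inf_le_right) a) = (U ⊓ V).ι.appLE (U ⊓ V) ⊤ e₀ (X.presheaf.map (homOfLE inf_le_right).op a') := by
    intro a
    obtain ⟨a', rfl⟩ := (ConcreteCategory.bijective_of_isIso V.topIso.inv).2 a
    refine ⟨a', ?_⟩
    have : V.topIso.inv = V.ι.appLE V ⊤ e₀ := by
      simp [Scheme.Opens.ι_appLE, Scheme.Opens.topIso, Scheme.Opens.toScheme] <;> rfl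
    rw [this, ← CommRingCat.comp_apply, ← CommRingCat.comp_apply (X.presheaf.map _)]
    show ((V.ι.appLE V ⊤ e₀ ≫ q.appLE ⊤ W' inf_le_right) ≫ j.appLE W' ⊤ hjW) a' = _
    rw [Scheme.Hom.appLE_comp_appLE, Scheme.Hom.appLE_comp_appLE, Scheme.Hom.map_appLE]
    simp only [hj₂]
  have key : ∀ w : Γ(P, W'), ∃ b ∈ B, ev w = (U ⊓ V).ι.appLE (U ⊓ V) ⊤ e₀ b := by
    intro w
    letI : Algebra Γ(⊤_ Scheme.{u}, ⊤) Γ((U : Scheme.{u}), ⊤) := ((U.ι ≫ t).appLE ⊤ ⊤ le_top).hom.toAlgebra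
    letI : Algebra Γ(⊤_ Scheme.{u}, ⊤) Γ((V : Scheme.{u}), ⊤) := ((V.ι ≫ t).appLE ⊤ ⊤ le_top).hom.toAlgebra
    letI : Algebra Γ((U : Scheme.{u}), ⊤) Γ(P, W') := (p.appLE ⊤ W' inf_le_left).hom.toAlgebra
    letI : Algebra Γ((V : Scheme.{u}), ⊤) Γ(P, W') := (q.appLE ⊤ W' inf_le_right).hom.toAlgebra
    letI : Algebra Γ(⊤_ Scheme.{u}, ⊤) Γ(P, W') :=
      ((p.appLE ⊤ W' inf_le_left).hom.comp ((U.ι ≫ t).appLE ⊤ ⊤ le_top).hom).toAlgebra
    haveI : IsScalarTower Γ(⊤_ Scheme.{u}, ⊤) Γ((U : Scheme.{u}), ⊤) Γ(P, W') := .of_algebraMap_eq fun _ => rfl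
    haveI : IsScalarTower Γ(⊤_ Scheme.{u}, ⊤) Γ((V : Scheme.{u}), ⊤) Γ(P, W') := .of_algebraMap_eq' (by
      show (((U.ι ≫ t).appLE ⊤ ⊤ le_top) ≫ p.appLE ⊤ W' inf_le_left).hom =
        (((V.ι ≫ t).appLE ⊤ ⊤ le_top) ≫ q.appLE ⊤ W' inf_le_right).hom
      simp only [Scheme.Hom.appLE_comp_appLE]
      congr 2
      exact pullback.condition)
    haveI hpo' : Algebra.IsPushout Γ(⊤_ Scheme.{u}, ⊤) Γ((V : Scheme.{u}), ⊤) Γ((U : Scheme.{u}), ⊤) Γ(P, W') := hpo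
    induction w using hpo'.out.inductionOn with
    | zero => exact ⟨0, zero_mem _, by rw [map_zero, map_zero]⟩
    | tmul m =>
      obtain ⟨a', ha'⟩ := hU' m
      exact ⟨_, Subring.subset_closure (Or.inl ⟨a', rfl⟩), ha'⟩
    | smul c m hm =>
      obtain ⟨b, hb, hm⟩ := hm
      obtain ⟨a', ha'⟩ := hV' c
      refine ⟨X.presheaf.map (homOfLE inf_le_right).op a' * b, mul_mem (Subring.subset_closure (Or.inr ⟨a', rfl⟩)) hb, ?_⟩
      rw [Algebra.smul_def, map_mul, map_mul, hm]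
      exact congrArg (· * _) ha'
    | add a b ha hb =>
      obtain ⟨a', ha, ea⟩ := ha
      obtain ⟨b', hb, eb⟩ := hb
      exact ⟨a' + b', add_mem ha hb, by rw [map_add, ea, eb, map_add]⟩
  obtain ⟨b, hb, he⟩ := key (P.presheaf.map (homOfLE (le_top : W' ≤ ⊤)).op w)
  have : b = z := hinj (by
    rw [← he, ← hw]
    show j.appLE W' ⊤ hjW _ = _
    rw [← CommRingCat.comp_apply, Scheme.Hom.map_appLE, Scheme.Hom.app_eq_appLE]
    rfl)
  exact this ▸ hb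

end Groth.Agent.CurveGlueLib
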