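import Groth.Agent.CurveGlueLib.Pole
import Groth.Agent.CurveGlueLib.Sep
import Groth.Agent.ParaFLib.Cocycle
import Groth.Agent.AmpleLib.GenLocus
import Groth.Agent.AmpleEmb.SectionsGe
import Groth.Agent.InvExt.Cartier
import Groth.Agent.DivDescLib.Basic
import Groth.Prelude.Def_Curv2
import Mathlib.RingTheory.Ideal.Operations

/-!
# Invertible modules with a section vanishing outside an affine open with finite complement
-/

set_option autoImplicit false
set_option linter.style.haveILetI false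
set_option backward.isDefEq.respectTransparency false

universe u

open CategoryTheory CategoryTheory.Limits AlgebraicGeometry TopologicalSpace IsLocalRing Opposite
open Groth.Agent.ParaFLib Groth.Agent.AmpleLib

namespace Groth.Agent.CurveGlueLib

variable {X : Scheme.{u}}

theorem coheight_eq_one {x : X} (h : ringKrullDim (X.presheaf.stalk x) = 1) : Order.coheight x = 1 := by
  rw [ringKrullDim_stalk_eq_coheight] at h
  exact WithBot.coe_injective h

theorem eq_of_specializes {x x' : X} (h : ringKrullDim (X.presheaf.stalk x) = 1)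
    (h' : ringKrullDim (X.presheaf.stalk x') = 1) (hs : x' ⤳ x) : x' = x := by
  by_contra hne
  have h1 := coheight_eq_one h
  have h2 := coheight_eq_one h'
  have := Order.coheight_strictAnti (lt_of_le_not_ge (show x ≤ x' from hs) fun h3 => hne (Inseparable.eq (Specializes.antisymm hs h3))) (by rw [h2]; exact WithTop.one_lt_top)
  rw [h1, h2] at this
  exact lt_irrefl _ this

theorem eq_zero_near {U V : X.Opens} (hV : IsAffineOpen V) {t : X} (htV : t ∈ V) (hUV : U ≤ V) (hU : IsCompact (U : Set X))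
    (htU : t ∉ U) (z : Γ(X, U))
    (hz : ∀ (x' : X) (hx' : x' ∈ U), x' ⤳ t → X.presheaf.germ U x' hx' z = 0) :
    ∃ W : X.Opens, t ∈ W ∧ ∀ (x : X) (hxU : x ∈ U), x ∈ W → X.presheaf.germ U x hxU z = 0 := by
  classical
  have hloc : ∀ x : U, ∃ g : Γ(X, V), x.1 ∈ X.basicOpen g ∧ X.basicOpen g ≤ U := fun x => by
    obtain ⟨g, hg, hxg⟩ := hV.exists_basicOpen_le ⟨x.1, x.2⟩ (hUV x.2)
    exact ⟨g, hxg, hg⟩
  choose g hxg hgU using hloc
  obtain ⟨T, hT⟩ := hU.elim_finite_subcover (fun x : U => (X.basicOpen (g x) : Set X)) (fun x => (X.basicOpen (g x)).2)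
    fun x hx => Set.mem_iUnion.2 ⟨⟨x, hx⟩, hxg _⟩
  have key : ∀ i : U, ∃ W : X.Opens, t ∈ W ∧ ∀ (x : X) (hxU : x ∈ U), x ∈ W → x ∈ X.basicOpen (g i) →
      X.presheaf.germ U x hxU z = 0 := by
    intro i
    haveI := hV.isLocalization_basicOpen (g i)
    obtain ⟨⟨a, ⟨_, n, rfl⟩⟩, ha⟩ := IsLocalization.surj (Submonoid.powers (g i))
      (X.presheaf.map (homOfLE (hgU i)).op z)
    change X.presheaf.map (homOfLE (hgU i)).op z * X.presheaf.map (homOfLE (X.basicOpen_le (g i))).op (g i ^ n) =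
      X.presheaf.map (homOfLE (X.basicOpen_le (g i))).op a at ha
    have hE : ∀ (x : X) (hxU : x ∈ U), x ∈ X.basicOpen (g i) → X.presheaf.germ U x hxU z *
        X.presheaf.germ V x (hUV hxU) (g i) ^ n = X.presheaf.germ V x (hUV hxU) a := fun x hxU hx => by
      have := congrArg (X.presheaf.germ (X.basicOpen (g i)) x hx) ha
      rw [map_mul, TopCat.Presheaf.germ_res_apply, TopCat.Presheaf.germ_res_apply, TopCat.Presheaf.germ_res_apply,
        map_pow] at this
      exact this
    -- a power of `g` kills the germ of `a` at `t`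
    obtain ⟨k, hk⟩ : ∃ k : ℕ, X.presheaf.germ V t htV (g i) ^ k * X.presheaf.germ V t htV a = 0 := by
      let C : Ideal (X.presheaf.stalk t) :=
        Submodule.comap (LinearMap.toSpanSingleton _ (X.presheaf.stalk t) (X.presheaf.germ V t htV a)) ⊥
      suffices X.presheaf.germ V t htV (g i) ∈ C.radical from this
      rw [Ideal.radical_eq_sInf]
      refine Ideal.mem_sInf.2 ?_
      rintro q ⟨hCq, hq⟩
      by_contra hgq
      haveI := hq
      obtain ⟨x', hx, hxq⟩ := DivDescLib.exists_generisation t q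
      have hx'V : x' ∈ V := hx.mem_open V.2 htV
      have hu : IsUnit (X.presheaf.germ V x' hx'V (g i)) := by
        by_contra hnu
        apply hgq
        rw [← hxq, Ideal.mem_comap]
        erw [X.presheaf.germ_stalkSpecializes_apply htV hx (g i)]
        exact hnu
      have hx'g : x' ∈ X.basicOpen (g i) := (X.mem_basicOpen (g i) x' hx'V).2 hu
      have h0 : X.presheaf.germ V x' hx'V a = 0 := by
        rw [← hE x' (hgU i hx'g) hx'g, hz x' (hgU i hx'g) hx, zero_mul]
      letI := (X.presheaf.stalkSpecializes hx).hom.toAlgebra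
      haveI := S5090.isLocalization_stalkSpecializes hx
      obtain ⟨⟨s, hs⟩, hsb⟩ := (IsLocalization.map_eq_zero_iff
        ((maximalIdeal (X.presheaf.stalk x')).comap (X.presheaf.stalkSpecializes hx).hom).primeCompl
        (X.presheaf.stalk x') (X.presheaf.germ V t htV a)).1 ((X.presheaf.germ_stalkSpecializes_apply htV hx a).trans h0)
      exact hs (hxq.symm ▸ hCq (show s * _ = 0 from hsb))
    rw [← map_pow, ← map_mul, ← map_zero (X.presheaf.germ V t htV).hom] at hk
    obtain ⟨W, htW, j, j', hW⟩ := X.presheaf.germ_eq t htV htV _ _ hk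
    refine ⟨W, htW, fun x hxU hxW hxg' => ?_⟩
    have h1 := congrArg (X.presheaf.germ W x hxW) hW
    rw [TopCat.Presheaf.germ_res_apply, TopCat.Presheaf.germ_res_apply, map_zero, map_mul, map_pow] at h1
    have hu : IsUnit (X.presheaf.germ V x (hUV hxU) (g i)) := (X.mem_basicOpen (g i) x (hUV hxU)).1 hxg'
    have h2 := (hu.pow k).mul_right_eq_zero.1 h1
    rw [← hE x hxU hxg'] at h2
    exact (hu.pow n).mul_left_eq_zero.1 h2
  choose W htW hW using key
  refine ⟨⟨⋂ i ∈ T, (W i : Set X), isOpen_biInter_finset fun i _ => (W i).2⟩, Set.mem_iInter₂.2 fun i _ => htW i, fun x hxU hxW => ?_⟩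
  obtain ⟨i, hi, hxi⟩ := Set.mem_iUnion₂.1 (hT hxU)
  exact hW i x hxU (Set.mem_iInter₂.1 hxW i hi) hxi

/-- The map from sections to a ring over the local ring at `t`. -/
noncomputable def psi {t : X} {S : CommRingCat.{u}} (φ : X.presheaf.stalk t ⟶ S) (W : X.Opens)
    (e : (⊤ : (Spec S).Opens) ≤ (Spec.map φ ≫ X.fromSpecStalk t) ⁻¹ᵁ W) : Γ(X, W) ⟶ S :=
  (Spec.map φ ≫ X.fromSpecStalk t).appLE W ⊤ e ≫ (Scheme.ΓSpecIso S).hom

theorem psi_res {t : X} {S : CommRingCat.{u}} (φ : X.presheaf.stalk t ⟶ S) {W W' : X.Opens}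
    (e' : (⊤ : (Spec S).Opens) ≤ (Spec.map φ ≫ X.fromSpecStalk t) ⁻¹ᵁ W') (i : W' ≤ W) (a : Γ(X, W)) :
    psi φ W' e' (X.presheaf.map (homOfLE i).op a) = psi φ W (e'.trans (Scheme.Hom.preimage_mono _ i)) a := by
  rw [psi, psi, ← CommRingCat.comp_apply, ← Category.assoc, Scheme.Hom.map_appLE]

theorem appLE_congr_hom {Z : Scheme.{u}} {m m' : Z ⟶ X} (h : m = m') (W : X.Opens) (O : Z.Opens) (e : O ≤ m ⁻¹ᵁ W)
    (e' : O ≤ m' ⁻¹ᵁ W) : m.appLE W O e = m'.appLE W O e' := by
  subst h; rfl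

theorem psi_germ {t : X} {S : CommRingCat.{u}} (φ : X.presheaf.stalk t ⟶ S) {W : X.Opens}
    (e : (⊤ : (Spec S).Opens) ≤ (Spec.map φ ≫ X.fromSpecStalk t) ⁻¹ᵁ W) (ht : t ∈ W) (a : Γ(X, W)) :
    psi φ W e a = φ (X.presheaf.germ W t ht a) := by
  have e₁ : (⊤ : (Spec (X.presheaf.stalk t)).Opens) ≤ X.fromSpecStalk t ⁻¹ᵁ W := fun p _ => by
    show X.fromSpecStalk t p ∈ W
    have : X.fromSpecStalk t p ⤳ t := by
      have h : X.fromSpecStalk t p ∈ Set.range (X.fromSpecStalk t) := ⟨p, rfl⟩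
      rwa [Scheme.range_fromSpecStalk] at h
    exact this.mem_open W.2 ht
  have : psi φ W e = X.presheaf.germ W t ht ≫ φ := by
    have h2 : (X.fromSpecStalk t).appLE W ⊤ e₁ = X.presheaf.germ W t ht ≫ (Scheme.ΓSpecIso _).inv := by
      rw [Scheme.Hom.appLE, Scheme.fromSpecStalk_app ht, Category.assoc, Category.assoc, ← Functor.map_comp]
      congr 1
    have h3 : (Spec.map φ).appLE ⊤ ⊤ le_top = (Spec.map φ).appTop := (Scheme.Hom.app_eq_appLE _).symm
    rw [psi, ← Scheme.Hom.appLE_comp_appLE (Spec.map φ) (X.fromSpecStalk t) W ⊤ ⊤ e₁ le_top, h2, h3,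
      Category.assoc, Category.assoc, Scheme.ΓSpecIso_naturality, Iso.inv_hom_id_assoc]
  rw [this]
  rfl

theorem psi_comp {t : X} {S S' : CommRingCat.{u}} (φ : X.presheaf.stalk t ⟶ S) (χ : S ⟶ S') (W : X.Opens)
    (e : (⊤ : (Spec S).Opens) ≤ (Spec.map φ ≫ X.fromSpecStalk t) ⁻¹ᵁ W)
    (e' : (⊤ : (Spec S').Opens) ≤ (Spec.map (φ ≫ χ) ≫ X.fromSpecStalk t) ⁻¹ᵁ W) :
    psi φ W e ≫ χ = psi (φ ≫ χ) W e' := by
  have h3 : (Spec.map χ).appLE ⊤ ⊤ le_top = (Spec.map χ).appTop := (Scheme.Hom.app_eq_appLE _).symm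
  rw [psi, psi, Category.assoc, ← Scheme.ΓSpecIso_naturality, ← h3, ← Category.assoc, Scheme.Hom.appLE_comp_appLE,
    appLE_congr_hom (show Spec.map χ ≫ Spec.map φ ≫ X.fromSpecStalk t = Spec.map (φ ≫ χ) ≫ X.fromSpecStalk t by
      rw [Spec.map_comp, Category.assoc]) W ⊤ _ e']

theorem psi_spec {t x : X} (hx : x ⤳ t) {W : X.Opens}
    (e : (⊤ : (Spec (X.presheaf.stalk x)).Opens) ≤ (Spec.map (X.presheaf.stalkSpecializes hx) ≫ X.fromSpecStalk t) ⁻¹ᵁ W)
    (hxW : x ∈ W) (a : Γ(X, W)) :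
    psi (X.presheaf.stalkSpecializes hx) W e a = X.presheaf.germ W x hxW a := by
  have h1 : Spec.map (𝟙 _) ≫ X.fromSpecStalk x = Spec.map (X.presheaf.stalkSpecializes hx) ≫ X.fromSpecStalk t := by
    rw [Scheme.SpecMap_stalkSpecializes_fromSpecStalk, Spec.map_id, Category.id_comp]
  have e₂ : (⊤ : (Spec (X.presheaf.stalk x)).Opens) ≤ (Spec.map (𝟙 _) ≫ X.fromSpecStalk x) ⁻¹ᵁ W := h1 ▸ e
  have h2 : psi (X.presheaf.stalkSpecializes hx) W e = psi (𝟙 _) W e₂ := by
    rw [psi, psi, appLE_congr_hom h1.symm W ⊤ e e₂]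
  rw [h2, psi_germ _ _ hxW]
  rfl

/-- An affine open with finite complement of one-dimensional points is the locus of a section of a
globally generated invertible module. -/
theorem exists_gg_genLocus [X.IsSeparated] (U : X.Opens) (hU : IsAffineOpen U) (hfin : ((U : Set X)ᶜ).Finite)
    (hloc : ∀ x : X, x ∉ U → IsNoetherianRing (X.presheaf.stalk x) ∧ ringKrullDim (X.presheaf.stalk x) = 1) :
    ∃ (L : X.Modules) (s : Coh.structureModule X ⟶ L), PicF.IsInvertible L ∧ Curv2.IsGloballyGenerated L ∧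
      CohB1.genLocus L s = U := by
  classical
  let T : Type u := {x : X // x ∉ U}
  haveI : Finite T := hfin.to_subtype
  haveI : ∀ t : T, IsNoetherianRing (X.presheaf.stalk t.1) := fun t => (hloc t.1 t.2).1
  have hdim : ∀ t : T, ringKrullDim (X.presheaf.stalk t.1) = 1 := fun t => (hloc t.1 t.2).2
  have hgenU : ∀ (t : T) (x : X), x ⤳ t.1 → x ≠ t.1 → x ∈ U := fun t x hx hne => by
    by_contra hxU
    exact hne (eq_of_specializes (hdim t) (hloc x hxU).2 hx)
  -- a parameter at each point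
  have hf : ∀ t : T, ∃ f ∈ maximalIdeal (X.presheaf.stalk t.1), ∀ p ∈ minimalPrimes (X.presheaf.stalk t.1), f ∉ p := by
    intro t
    have hfinm := minimalPrimes.finite_of_isNoetherianRing (X.presheaf.stalk t.1)
    by_contra hcon
    push Not at hcon
    have hsub : (maximalIdeal (X.presheaf.stalk t.1) : Set (X.presheaf.stalk t.1)) ⊆
        ⋃ p ∈ (hfinm.toFinset : Set (Ideal (X.presheaf.stalk t.1))), (p : Set (X.presheaf.stalk t.1)) := fun f hf => by
      obtain ⟨p, hp, hfp⟩ := hcon f hf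
      exact Set.mem_biUnion (hfinm.mem_toFinset.2 hp) hfp
    obtain ⟨p, hp, hle⟩ := (Ideal.subset_union_prime ⊤ ⊤ fun p hp _ _ => Ideal.minimalPrimes_isPrime (hfinm.mem_toFinset.1 hp)).1 hsub
    have hp' := hfinm.mem_toFinset.1 hp
    haveI : Ring.KrullDimLE 0 (X.presheaf.stalk t.1) := by
      refine Ring.krullDimLE_zero_iff.2 fun q hq => ?_
      have h1 : maximalIdeal (X.presheaf.stalk t.1) = p :=
        le_antisymm hle (IsLocalRing.le_maximalIdeal (Ideal.minimalPrimes_isPrime hp').ne_top)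
      haveI := hq
      have h2 : q = maximalIdeal _ := le_antisymm (IsLocalRing.le_maximalIdeal hq.ne_top)
        (h1 ▸ hp'.2 ⟨hq, bot_le⟩ ((IsLocalRing.le_maximalIdeal hq.ne_top).trans h1.le))
      exact h2 ▸ maximalIdeal.isMaximal _
    have h0 := (Ring.krullDimLE_iff (R := X.presheaf.stalk t.1) (n := 0)).1 inferInstance
    rw [hdim t] at h0
    exact absurd h0 (by norm_num)
  choose f hfm hfp using hf
  have hfonly : ∀ (t : T) (q : Ideal (X.presheaf.stalk t.1)), q.IsPrime → f t ∈ q →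
      q = maximalIdeal (X.presheaf.stalk t.1) := by
    intro t q hq hfq
    haveI : Ring.KrullDimLE 1 (X.presheaf.stalk t.1) := Ring.krullDimLE_iff.mpr (hdim t).le
    rcases (Ring.krullDimLE_one_iff.mp inferInstance) q hq with h | h
    · exact absurd hfq (hfp t q h)
    · exact IsLocalRing.eq_maximalIdeal h
  -- the other points of the complement are away from each point
  have hVex : ∀ t : T, ∃ V : X.Opens, IsAffineOpen V ∧ t.1 ∈ V ∧ ∀ x ∈ V, x ∉ U → x = t.1 := by
    intro t
    have hcl : ∀ x : X, x ∉ U → IsClosed ({x} : Set X) := fun x hx => by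
      rw [← closure_eq_iff_isClosed]
      refine Set.Subset.antisymm (fun y hy => ?_) subset_closure
      have hxy : x ⤳ y := specializes_iff_mem_closure.2 hy
      have hyU : y ∉ U := fun hyU => hx (hxy.mem_open U.2 hyU)
      exact (eq_of_specializes (hloc y hyU).2 (hloc x hx).2 hxy).symm
    have hC : IsClosed ((U : Set X)ᶜ \ {t.1}) := by
      rw [← Set.biUnion_of_singleton ((U : Set X)ᶜ \ {t.1})]
      exact (hfin.subset Set.diff_subset).isClosed_biUnion fun x hx => hcl x hx.1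
    obtain ⟨_, ⟨V : X.Opens, hV, rfl⟩, htV, hle⟩ := X.isBasis_affineOpens.exists_subset_of_mem_open
      (a := t.1) (u := ((U : Set X)ᶜ \ {t.1})ᶜ) (fun h => h.2 rfl) hC.isOpen_compl
    exact ⟨V, hV, htV, fun x hx hxU => by_contra fun hne => hle hx ⟨hxU, hne⟩⟩
  choose V hV htV hVT using hVex
  let φ : ∀ t : T, X.presheaf.stalk t.1 ⟶ CommRingCat.of (Localization.Away (f t)) := fun t =>
    CommRingCat.ofHom (algebraMap (X.presheaf.stalk t.1) (Localization.Away (f t)))
  have he : ∀ t : T, (⊤ : (Spec (CommRingCat.of (Localization.Away (f t)))).Opens) ≤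
      (Spec.map (φ t) ≫ X.fromSpecStalk t.1) ⁻¹ᵁ (U ⊓ V t) := by
    intro t p _
    show X.fromSpecStalk t.1 (Spec.map (φ t) p) ∈ U ⊓ V t
    have hsp : X.fromSpecStalk t.1 (Spec.map (φ t) p) ⤳ t.1 := by
      have h : X.fromSpecStalk t.1 (Spec.map (φ t) p) ∈ Set.range (X.fromSpecStalk t.1) := ⟨_, rfl⟩
      rwa [Scheme.range_fromSpecStalk] at h
    refine ⟨hgenU t _ hsp fun h => ?_, hsp.mem_open (V t).2 (htV t)⟩
    have hq : Spec.map (φ t) p = closedPoint (X.presheaf.stalk t.1) :=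
      (X.fromSpecStalk t.1).isEmbedding.injective (h.trans Scheme.fromSpecStalk_closedPoint.symm)
    have hm : f t ∈ (Spec.map (φ t) p).asIdeal := by rw [hq]; exact hfm t
    exact p.isPrime.ne_top (Ideal.eq_top_of_isUnit_mem _ (show algebraMap (X.presheaf.stalk t.1) (Localization.Away (f t)) (f t) ∈ p.asIdeal from hm)
      (IsLocalization.Away.algebraMap_isUnit (f t)))
  have heU : ∀ t : T, (⊤ : (Spec (CommRingCat.of (Localization.Away (f t)))).Opens) ≤
      (Spec.map (φ t) ≫ X.fromSpecStalk t.1) ⁻¹ᵁ U :=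
    fun t => (he t).trans (Scheme.Hom.preimage_mono _ inf_le_left)
  have heV : ∀ t : T, (⊤ : (Spec (CommRingCat.of (Localization.Away (f t)))).Opens) ≤
      (Spec.map (φ t) ≫ X.fromSpecStalk t.1) ⁻¹ᵁ V t :=
    fun t => (he t).trans (Scheme.Hom.preimage_mono _ inf_le_right)
  let ψ : ∀ t : T, Γ(X, U) →+* Localization.Away (f t) := fun t => (psi (φ t) U (heU t)).hom
  have hgen : ∀ t : T, IsLocalization.Away.invSelf (f t) ∈ Subring.closure
      (Set.range (ψ t) ∪ Set.range (algebraMap (X.presheaf.stalk t.1) (Localization.Away (f t)))) := by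
    intro t
    set B := Subring.closure
      (Set.range (ψ t) ∪ Set.range (algebraMap (X.presheaf.stalk t.1) (Localization.Away (f t)))) with hB
    have hψ : ∀ z : Γ(X, U ⊓ V t), psi (φ t) (U ⊓ V t) (he t) z ∈ B := by
      intro z
      have hle : Subring.closure (Set.range (X.presheaf.map (homOfLE (inf_le_left : U ⊓ V t ≤ U)).op) ∪
          Set.range (X.presheaf.map (homOfLE (inf_le_right : U ⊓ V t ≤ V t)).op)) ≤
          B.comap (psi (φ t) (U ⊓ V t) (he t)).hom := by
        refine Subring.closure_le.2 ?_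
        rintro _ (⟨a, rfl⟩ | ⟨a, rfl⟩)
        · show psi (φ t) _ (he t) _ ∈ B
          rw [psi_res]
          exact Subring.subset_closure (Or.inl ⟨a, rfl⟩)
        · show psi (φ t) _ (he t) _ ∈ B
          rw [psi_res, psi_germ _ _ (htV t)]
          exact Subring.subset_closure (Or.inr ⟨_, rfl⟩)
      exact hle (mem_closure_of_inf hU (hV t) z)
    have hD : IsAffineOpen (U ⊓ V t) := hU.inf (hV t)
    let res := (X.presheaf.map (homOfLE (inf_le_right : U ⊓ V t ≤ V t)).op).hom
    let G : Ideal Γ(X, U ⊓ V t) := Ideal.span (res '' {g | t.1 ∉ X.basicOpen g})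
    have hG : G = ⊤ := by
      rw [← hD.self_le_iSup_basicOpen_iff]
      intro x hx
      obtain ⟨g, hg, hxg⟩ := (hV t).exists_basicOpen_le ⟨x, hx⟩ hx.2
      refine Opens.mem_iSup.2 ⟨⟨res g, ⟨g, fun h => t.2 (hg h).1, rfl⟩⟩, ?_⟩
      show x ∈ X.basicOpen (X.presheaf.map _ g)
      rw [Scheme.basicOpen_res]
      exact ⟨hx, hxg⟩
    let α : X.presheaf.stalk t.1 →+* B := (algebraMap (X.presheaf.stalk t.1) (Localization.Away (f t))).codRestrict B
      fun r => Subring.subset_closure (Or.inr ⟨r, rfl⟩)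
    let β : Γ(X, U ⊓ V t) →+* B := (psi (φ t) (U ⊓ V t) (he t)).hom.codRestrict B hψ
    have hmtop : (maximalIdeal (X.presheaf.stalk t.1)).map α = ⊤ := by
      rw [Ideal.eq_top_iff_one, ← map_one β]
      have hle : G ≤ ((maximalIdeal (X.presheaf.stalk t.1)).map α).comap β := by
        refine Ideal.span_le.2 ?_
        rintro _ ⟨g, hg, rfl⟩
        have hgm : X.presheaf.germ (V t) t.1 (htV t) g ∈ maximalIdeal (X.presheaf.stalk t.1) :=
          fun hu => hg ((X.mem_basicOpen g t.1 (htV t)).2 hu)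
        have : β (res g) = α (X.presheaf.germ (V t) t.1 (htV t) g) := Subtype.ext (by
          show psi (φ t) _ (he t) (X.presheaf.map _ g) = _
          rw [psi_res, psi_germ _ _ (htV t)]
          rfl)
        rw [SetLike.mem_coe, Ideal.mem_comap, this]
        exact Ideal.mem_map_of_mem _ hgm
      exact hle (hG.symm ▸ Submodule.mem_top)
    have hrad : maximalIdeal (X.presheaf.stalk t.1) ≤ (Ideal.span {f t}).radical := by
      intro r hr
      rw [Ideal.radical_eq_sInf]
      refine Ideal.mem_sInf.2 ?_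
      rintro q ⟨hq, hqp⟩
      exact (hfonly t q hqp ((Ideal.span_singleton_le_iff_mem _).1 hq)).symm ▸ hr
    obtain ⟨N, hN⟩ := Ideal.exists_pow_le_of_le_radical_of_fg hrad (IsNoetherian.noetherian _)
    have hu : IsUnit (α (f t)) := by
      rw [← Ideal.span_singleton_eq_top, ← Set.image_singleton, ← Ideal.map_span]
      refine top_le_iff.1 ?_
      calc (⊤ : Ideal B) = ((maximalIdeal (X.presheaf.stalk t.1)).map α) ^ N := by rw [hmtop, Ideal.top_pow]
        _ = ((maximalIdeal (X.presheaf.stalk t.1)) ^ N).map α := (Ideal.map_pow _ _ _).symm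
        _ ≤ _ := Ideal.map_mono hN
    obtain ⟨b, hb⟩ := hu.exists_left_inv
    have hb' : (b : Localization.Away (f t)) * algebraMap _ _ (f t) = 1 := congrArg Subtype.val hb
    have : IsLocalization.Away.invSelf (f t) = (b : Localization.Away (f t)) := by
      refine (IsLocalization.Away.algebraMap_isUnit (S := Localization.Away (f t)) (f t)).mul_left_injective ?_
      show _ * _ = _ * _
      rw [hb', mul_comm, IsLocalization.Away.mul_invSelf]
    exact this ▸ b.2
  obtain ⟨h, hh⟩ := exists_inverse_mem (A := Γ(X, U)) (fun t : T => (X.presheaf.stalk t.1 : Type u)) hdim f hfm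
    hfp (fun t => Localization.Away (f t)) ψ hgen
  -- the local inverses
  have hW : ∀ t : T, ∃ (W : X.Opens) (r : Γ(X, W)), t.1 ∈ W ∧ W ≤ V t ∧
      (∀ ht : t.1 ∈ W, ¬ IsUnit (X.presheaf.germ W t.1 ht r)) ∧
      ∀ (x : X) (hx : x ∈ W) (hxU : x ∈ U), X.presheaf.germ U x hxU h * X.presheaf.germ W x hx r = 1 := by
    intro t
    obtain ⟨r, hrm, hr⟩ := hh t
    obtain ⟨W₀, htW₀, r₀, hr₀⟩ := X.presheaf.germ_exist (x := t.1) r
    obtain ⟨_, ⟨W₁ : X.Opens, hW₁, rfl⟩, htW₁, hle⟩ := X.isBasis_affineOpens.exists_subset_of_mem_open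
      (show t.1 ∈ W₀ ⊓ V t from ⟨htW₀, htV t⟩) (W₀ ⊓ V t).2
    have hle₀ : W₁ ≤ W₀ := fun x hx => (hle hx).1
    let z : Γ(X, U ⊓ W₁) := X.presheaf.map (homOfLE inf_le_left).op h *
      X.presheaf.map (homOfLE (inf_le_right.trans hle₀)).op r₀ - 1
    obtain ⟨W₂, htW₂, hW₂⟩ := eq_zero_near hW₁ htW₁ (inf_le_right : U ⊓ W₁ ≤ W₁) (hU.inf hW₁).isCompact
      (fun hh => t.2 hh.1) z (by
        intro x' hx' hsp
        have hne : x' ≠ t.1 := fun e => t.2 (e ▸ hx'.1)
        have hunit : IsUnit (X.presheaf.stalkSpecializes hsp (f t)) := by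
          by_contra hnu
          have hq := hfonly t ((maximalIdeal (X.presheaf.stalk x')).comap (X.presheaf.stalkSpecializes hsp).hom)
            inferInstance hnu
          have hpt : Spec.map (X.presheaf.stalkSpecializes hsp) (closedPoint (X.presheaf.stalk x')) =
              closedPoint (X.presheaf.stalk t.1) := PrimeSpectrum.ext hq
          have h1 : X.fromSpecStalk x' (closedPoint (X.presheaf.stalk x')) =
              X.fromSpecStalk t.1 (closedPoint (X.presheaf.stalk t.1)) := by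
            rw [← hpt, ← Scheme.SpecMap_stalkSpecializes_fromSpecStalk hsp]
            rfl
          rw [Scheme.fromSpecStalk_closedPoint, Scheme.fromSpecStalk_closedPoint] at h1
          exact hne h1
        let χ : CommRingCat.of (Localization.Away (f t)) ⟶ X.presheaf.stalk x' :=
          CommRingCat.ofHom (IsLocalization.Away.lift (f t) hunit)
        have hcomp : φ t ≫ χ = X.presheaf.stalkSpecializes hsp := by
          ext a
          exact IsLocalization.Away.lift_eq _ hunit a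
        have e' : (⊤ : (Spec (X.presheaf.stalk x')).Opens) ≤ (Spec.map (φ t ≫ χ) ≫ X.fromSpecStalk t.1) ⁻¹ᵁ U := by
          rw [hcomp, Scheme.SpecMap_stalkSpecializes_fromSpecStalk]
          intro p _
          have hp : X.fromSpecStalk x' p ⤳ x' := by
            have h : X.fromSpecStalk x' p ∈ Set.range (X.fromSpecStalk x') := ⟨_, rfl⟩
            rwa [Scheme.range_fromSpecStalk] at h
          exact hgenU t _ (hp.trans hsp) fun hpe => hne (by
            have hp' : t.1 ⤳ x' := hpe ▸ hp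
            exact (Inseparable.eq (Specializes.antisymm hp' hsp)).symm)
        have h2 : χ (psi (φ t) U (heU t) h) = X.presheaf.germ U x' hx'.1 h := by
          rw [← CommRingCat.comp_apply, psi_comp _ _ _ _ e']
          have e'' : (⊤ : (Spec (X.presheaf.stalk x')).Opens) ≤
              (Spec.map (X.presheaf.stalkSpecializes hsp) ≫ X.fromSpecStalk t.1) ⁻¹ᵁ U := hcomp ▸ e'
          have : psi (φ t ≫ χ) U e' = psi (X.presheaf.stalkSpecializes hsp) U e'' := by
            congr 1
          rw [this, psi_spec hsp e'' hx'.1]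
        have h3 := congrArg χ hr
        rw [map_mul, map_one] at h3
        change χ (psi (φ t) U (heU t) h) * χ (φ t r) = 1 at h3
        rw [h2, ← CommRingCat.comp_apply (φ t), hcomp, ← hr₀] at h3
        erw [X.presheaf.germ_stalkSpecializes_apply htW₀ hsp r₀] at h3
        rw [map_sub, map_one, map_mul, TopCat.Presheaf.germ_res_apply, TopCat.Presheaf.germ_res_apply, h3, sub_self])
    refine ⟨W₁ ⊓ W₂, X.presheaf.map (homOfLE (inf_le_left.trans hle₀)).op r₀, ⟨htW₁, htW₂⟩,
      fun x hx => (hle hx.1).2, fun ht hu => ?_, fun x hx hxU => ?_⟩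
    · rw [TopCat.Presheaf.germ_res_apply] at hu
      exact hrm (hr₀ ▸ hu)
    · have h0 := hW₂ x ⟨hxU, hx.1⟩ hx.2
      rw [map_sub, map_one, map_mul, TopCat.Presheaf.germ_res_apply, TopCat.Presheaf.germ_res_apply,
        sub_eq_zero] at h0
      rw [TopCat.Presheaf.germ_res_apply]
      exact h0
  choose W r htW hWV hnu hone using hW
  -- the cocycle
  let O : Option T → X.Opens := fun i => i.elim U W
  let c : ∀ i : Option T, Γ(X, O i) := fun i => match i with
    | none => (1 : Γ(X, U))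
    | some t => r t
  let c' : ∀ i : Option T, Γ(X, O i) := fun i => match i with
    | none => h
    | some t => (1 : Γ(X, W t))
  have hsub : ∀ (i j : Option T), i ≠ j → O i ⊓ O j ≤ U := by
    rintro (_ | t) (_ | t') hne x hx
    · exact hx.1
    · exact hx.1
    · exact hx.2
    · by_contra hxU
      exact hne (congrArg some (Subtype.ext ((hVT t x (hWV t hx.1) hxU).symm.trans (hVT t' x (hWV t' hx.2) hxU))))
  have hc' : ∀ (i : Option T) (x : X) (hx : x ∈ O i) (hxU : x ∈ U),
      X.presheaf.germ (O i) x hx (c' i) = X.presheaf.germ U x hxU h * X.presheaf.germ (O i) x hx (c i) := by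
    rintro (_ | t) x hx hxU
    · show _ = _ * X.presheaf.germ U x hx (1 : Γ(X, U))
      rw [map_one, mul_one]
      rfl
    · show X.presheaf.germ (W t) x hx (1 : Γ(X, W t)) = _
      rw [map_one]
      exact (hone t x hx hxU).symm
  have hcu : ∀ (i : Option T) (x : X) (hx : x ∈ O i), x ∈ U → IsUnit (X.presheaf.germ (O i) x hx (c i)) := by
    rintro (_ | t) x hx hxU
    · exact isUnit_one.map (X.presheaf.germ U x hx).hom
    · exact IsUnit.of_mul_eq_one_right _ (hone t x hx hxU)
  have hη : ∀ i j : Option T, ∃ η : (Γ(X, O i ⊓ O j))ˣ, (i = j → η = 1) ∧ ∀ (x : X) (hx : x ∈ O i ⊓ O j),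
      X.presheaf.germ (O i) x hx.1 (c i) * X.presheaf.germ (O i ⊓ O j) x hx (η : Γ(X, O i ⊓ O j)) =
        X.presheaf.germ (O j) x hx.2 (c j) := by
    intro i j
    by_cases hij : i = j
    · subst hij
      exact ⟨1, fun _ => rfl, fun x hx => by rw [Units.val_one, map_one, mul_one]⟩
    · have hi : IsUnit (X.presheaf.map (homOfLE (inf_le_left : O i ⊓ O j ≤ O i)).op (c i)) :=
        RingedSpace.isUnit_of_isUnit_germ _ _ _ fun x hx => by
          erw [TopCat.Presheaf.germ_res_apply]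
          exact hcu i x hx.1 (hsub i j hij hx)
      have hj : IsUnit (X.presheaf.map (homOfLE (inf_le_right : O i ⊓ O j ≤ O j)).op (c j)) :=
        RingedSpace.isUnit_of_isUnit_germ _ _ _ fun x hx => by
          erw [TopCat.Presheaf.germ_res_apply]
          exact hcu j x hx.2 (hsub i j hij hx)
      refine ⟨hi.unit⁻¹ * hj.unit, fun h => absurd h hij, fun x hx => ?_⟩
      have := congrArg (X.presheaf.germ (O i ⊓ O j) x hx) (show
        X.presheaf.map (homOfLE (inf_le_left : O i ⊓ O j ≤ O i)).op (c i) * ((hi.unit⁻¹ * hj.unit : (Γ(X, O i ⊓ O j))ˣ) : Γ(X, O i ⊓ O j)) =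
          X.presheaf.map (homOfLE (inf_le_right : O i ⊓ O j ≤ O j)).op (c j) by
        rw [Units.val_mul, ← mul_assoc, IsUnit.mul_val_inv, one_mul, IsUnit.unit_spec])
      rwa [map_mul, TopCat.Presheaf.germ_res_apply, TopCat.Presheaf.germ_res_apply] at this
  choose η hη1 hηc using hη
  have hcoc : IsCocycle O η := by
    intro i j k
    refine TopCat.Presheaf.section_ext X.sheaf _ _ _ fun x hx => ?_
    rw [map_mul]
    erw [TopCat.Presheaf.germ_res_apply, TopCat.Presheaf.germ_res_apply, TopCat.Presheaf.germ_res_apply]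
    by_cases hij : i = j
    · subst hij
      rw [hη1 i i rfl, Units.val_one, map_one, one_mul]
    by_cases hjk : j = k
    · subst hjk
      rw [hη1 j j rfl, Units.val_one, map_one, mul_one]
    have hxU : x ∈ U := hsub i j hij hx.1
    refine (hcu i x hx.1.1 hxU).mul_right_injective ?_
    show _ * _ = _ * _
    rw [← mul_assoc]
    erw [hηc i k x ⟨hx.1.1, hx.2⟩, hηc i j x hx.1, hηc j k x ⟨hx.1.2, hx.2⟩]
  have hO : iSup O = ⊤ := top_le_iff.1 fun x _ => by
    by_cases hxU : x ∈ U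
    · exact Opens.mem_iSup.2 ⟨none, hxU⟩
    · exact Opens.mem_iSup.2 ⟨some ⟨x, hxU⟩, htW ⟨x, hxU⟩⟩
  obtain ⟨L, s, hL, hs, hss⟩ := exists_invertible_of_cocycle O η hO hcoc
  let F : TopCat.Sheaf Ab.{u} X.carrier := ⟨L.presheaf, L.isSheaf⟩
  have glue : ∀ d : ∀ i, Γ(X, O i), (∀ (i j : Option T) (x : X) (hx : x ∈ O i ⊓ O j),
      X.presheaf.germ (O i) x hx.1 (d i) * X.presheaf.germ (O i ⊓ O j) x hx (η i j : Γ(X, O i ⊓ O j)) =
        X.presheaf.germ (O j) x hx.2 (d j)) →
      ∃ σ : Γ(L, ⊤), ∀ i, d i • s i = resT σ (O i) := by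
    intro d hd
    obtain ⟨σ, hσ, -⟩ := F.existsUnique_gluing' O ⊤ (fun i => homOfLE le_top) hO.ge (fun i => d i • s i) (by
      intro i j
      show L.presheaf.map (homOfLE (inf_le_left : O i ⊓ O j ≤ O i)).op (d i • s i) =
        L.presheaf.map (homOfLE (inf_le_right : O i ⊓ O j ≤ O j)).op (d j • s j)
      rw [L.map_smul, L.map_smul, hss i j, ← mul_smul]
      refine congrArg (fun a : Γ(X, O i ⊓ O j) => a • L.presheaf.map (homOfLE inf_le_right).op (s j)) ?_
      refine TopCat.Presheaf.section_ext X.sheaf _ _ _ fun x hx => ?_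
      rw [map_mul]
      erw [TopCat.Presheaf.germ_res_apply, TopCat.Presheaf.germ_res_apply]
      exact hd i j x hx)
    exact ⟨σ, fun i => (hσ i).symm⟩
  obtain ⟨σ, hσ⟩ := glue c hηc
  obtain ⟨σ', hσ'⟩ := glue c' (by
    intro i j x hx
    by_cases hij : i = j
    · subst hij
      rw [hη1 i i rfl, Units.val_one, map_one, mul_one]
    have hxU : x ∈ U := hsub i j hij hx
    rw [hc' i x hx.1 hxU, hc' j x hx.2 hxU, mul_assoc, hηc i j x hx])
  have hloc' : ∀ (d : ∀ i, Γ(X, O i)) (τ : Γ(L, ⊤)), (∀ i, d i • s i = resT τ (O i)) → ∀ i,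
      CohB1.genLocus L (DCohLib.secHom L τ) ⊓ O i = X.basicOpen (d i) := fun d τ hτ i =>
    genLocus_inf_eq_basicOpen _ (hs i) (by rw [sec_secHom]; exact hτ i)
  have hgl : CohB1.genLocus L (DCohLib.secHom L σ) = U := by
    ext x
    constructor
    · intro hx
      by_contra hxU
      have h1 : x ∈ X.basicOpen (r ⟨x, hxU⟩) :=
        (hloc' c σ hσ (some ⟨x, hxU⟩)).le ⟨hx, htW ⟨x, hxU⟩⟩
      exact hnu ⟨x, hxU⟩ (htW ⟨x, hxU⟩) ((X.mem_basicOpen _ x (htW ⟨x, hxU⟩)).1 h1)
    · intro hx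
      exact ((hloc' c σ hσ none).ge ((X.mem_basicOpen (c none) x hx).2 (hcu none x hx hx))).1
  refine ⟨L, _, hL, AmpleEmb.isGloballyGenerated_of_genLocus hL
    (fun b : ULift.{u} Bool => if b.down then DCohLib.secHom L σ else DCohLib.secHom L σ') (fun x => ?_), hgl⟩
  by_cases hxU : x ∈ U
  · exact ⟨⟨true⟩, by simpa [hgl] using hxU⟩
  · refine ⟨⟨false⟩, ?_⟩
    have h1 : x ∈ X.basicOpen (c' (some ⟨x, hxU⟩)) := by
      rw [X.mem_basicOpen _ x (htW ⟨x, hxU⟩)]
      exact isUnit_one.map (X.presheaf.germ (W ⟨x, hxU⟩) x _).hom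
    simpa using ((hloc' c' σ' hσ' (some ⟨x, hxU⟩)).ge h1).1

end Groth.Agent.CurveGlueLib
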