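import Groth.Agent.SemiLocGlue.Basic
import Mathlib.RingTheory.Localization.Away.Basic
import Mathlib.RingTheory.Ideal.MinimalPrime.Noetherian

/-!
# Elements with poles at finitely many one-dimensional points
-/

set_option autoImplicit false
set_option linter.style.haveILetI false

universe u

open IsLocalRing Groth.Agent.SemiLocGlue

namespace Groth.Agent.CurveGlueLib

theorem valuation_add_pow {K : Type*} [Field K] (V : ValuationSubring K) {x a : K} (hx : 1 < V.valuation x) {N : ℕ}
    (hne : 1 < V.valuation a → V.valuation a ^ N ≠ V.valuation x) : 1 < V.valuation (x + a ^ N) := by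
  have hne' : V.valuation x ≠ V.valuation (a ^ N) := by
    rw [map_pow]
    intro h
    rcases le_or_gt (V.valuation a) 1 with hle | hgt
    · exact hx.not_ge (h ▸ pow_le_one₀ zero_le hle)
    · exact hne hgt h.symm
  rw [Valuation.map_add_of_distinct_val _ hne']
  exact hx.trans_le (le_max_left _ _)

/-- One element with a pole at each of finitely many valuations. -/
theorem exists_pole {A : Type u} [CommRing A] {β : Type*} [Finite β] (K : β → Type u) [∀ b, Field (K b)]
    (ψ : ∀ b, A →+* K b) (V : ∀ b, ValuationSubring (K b)) (h : ∀ b, ∃ a, 1 < (V b).valuation (ψ b a)) :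
    ∃ x : A, ∀ b, 1 < (V b).valuation (ψ b x) := by
  classical
  haveI := Fintype.ofFinite β
  suffices ∀ t : Finset β, ∃ x : A, ∀ b ∈ t, 1 < (V b).valuation (ψ b x) by
    obtain ⟨x, hx⟩ := this Finset.univ
    exact ⟨x, fun b => hx b (Finset.mem_univ b)⟩
  intro t
  induction t using Finset.induction_on with
  | empty => exact ⟨0, by simp⟩
  | insert b t hbt ih =>
    obtain ⟨x, hx⟩ := ih
    by_cases hxb : 1 < (V b).valuation (ψ b x)
    · exact ⟨x, fun c hc => (Finset.mem_insert.mp hc).elim (fun e => e ▸ hxb) (hx c)⟩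
    obtain ⟨a, ha⟩ := h b
    obtain ⟨N, hN0, hN⟩ : ∃ N : ℕ, N ≠ 0 ∧ ∀ c ∈ t, 1 < (V c).valuation (ψ c a) →
        (V c).valuation (ψ c a) ^ N ≠ (V c).valuation (ψ c x) := by
      have hfin : {N : ℕ | ∃ c ∈ t, 1 < (V c).valuation (ψ c a) ∧
          (V c).valuation (ψ c a) ^ N = (V c).valuation (ψ c x)}.Finite := by
        refine (Set.Finite.biUnion t.finite_toSet (t := fun c => {N : ℕ | 1 < (V c).valuation (ψ c a) ∧
          (V c).valuation (ψ c a) ^ N = (V c).valuation (ψ c x)}) fun c _ => ?_).subset ?_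
        · exact Set.Subsingleton.finite fun m hm n hn =>
            (pow_right_strictMono₀ hm.1).injective (hm.2.trans hn.2.symm)
        · rintro N ⟨c, hc, hN⟩
          exact Set.mem_biUnion hc hN
      obtain ⟨N, hN⟩ := ((Set.Ioi_infinite 0).sdiff hfin).nonempty
      exact ⟨N, (Set.mem_Ioi.mp hN.1).ne', fun c hc h1 h2 => hN.2 ⟨c, hc, h1, h2⟩⟩
    refine ⟨x + a ^ N, fun c hc => ?_⟩
    rw [map_add, map_pow]
    rcases Finset.mem_insert.mp hc with rfl | hc
    · rw [Valuation.map_add_eq_of_lt_right, map_pow]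
      · exact one_lt_pow₀ ha hN0
      · rw [map_pow]; exact (not_lt.mp hxb).trans_lt (one_lt_pow₀ ha hN0)
    · exact valuation_add_pow _ (hx c hc) (hN c hc)

section descend

variable {R : Type u} [CommRing R] [IsLocalRing R] [IsNoetherianRing R] {f : R}
  (S : Type u) [CommRing S] [Algebra R S] [IsLocalization.Away f S]

/-- A power lies in the maximal ideal if powers do modulo every minimal prime. -/
theorem exists_pow_mem_maximalIdeal (hf : f ∈ maximalIdeal R) (hrad : maximalIdeal R ≤ (Ideal.span {f}).radical)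
    (hmin : ∀ q : Ideal R, q.IsPrime → f ∉ q → q ∈ minimalPrimes R) (u : S)
    (h : ∀ p ∈ minimalPrimes R, ∃ M : ℕ, ∀ m, M ≤ m → ∃ r ∈ maximalIdeal R,
      u ^ m - algebraMap R S r ∈ p.map (algebraMap R S)) :
    ∃ N, 0 < N ∧ ∃ r ∈ maximalIdeal R, u ^ N = algebraMap R S r := by
  classical
  haveI := (minimalPrimes.finite_of_isNoetherianRing R).to_subtype
  haveI := Fintype.ofFinite (minimalPrimes R)
  choose M hM using fun p : minimalPrimes R => h p.1 p.2
  let m₀ := Finset.univ.sup M + 1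
  choose r hr hru using fun p : minimalPrimes R => hM p m₀ ((Finset.le_sup (Finset.mem_univ p)).trans (Nat.le_succ _))
  set v := u ^ m₀ with hv
  have hnil : IsNilpotent (∏ p : minimalPrimes R, (v - algebraMap R S (r p))) := by
    rw [← mem_nilradical, nilradical_eq_sInf]
    refine Ideal.mem_sInf.2 fun Q (hQ : Q.IsPrime) => ?_
    haveI := hQ
    have hfQ : f ∉ Q.comap (algebraMap R S) := fun hfQ => hQ.ne_top (Ideal.eq_top_of_isUnit_mem _ hfQ
      (IsLocalization.Away.algebraMap_isUnit f))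
    let p : minimalPrimes R := ⟨_, hmin _ inferInstance hfQ⟩
    exact Ideal.mem_of_dvd _ (Finset.dvd_prod_of_mem _ (Finset.mem_univ p)) (Ideal.map_comap_le (hru p))
  obtain ⟨e, he⟩ := hnil
  let P : Polynomial R := (∏ p : minimalPrimes R, (Polynomial.X - Polynomial.C (r p))) ^ e
  have hPm : P.Monic := (Polynomial.monic_prod_of_monic _ _ fun p _ => Polynomial.monic_X_sub_C (r p)).pow e
  have hPv : Polynomial.aeval v P = 0 := by
    rw [map_pow, map_prod, ← he]
    congr 1
    exact Finset.prod_congr rfl fun p _ => by simp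
  have hPmap : P.map (residue R) = (Polynomial.X : Polynomial (ResidueField R)) ^ P.natDegree := by
    have h1 : P.map (residue R) = (Polynomial.X : Polynomial (ResidueField R)) ^ (Fintype.card (minimalPrimes R) * e) := by
      rw [Polynomial.map_pow, Polynomial.map_prod, Finset.prod_congr rfl fun p _ => by
        rw [Polynomial.map_sub, Polynomial.map_X, Polynomial.map_C, (residue_eq_zero_iff (r p)).2 (hr p), map_zero, sub_zero],
        Finset.prod_const, Finset.card_univ, ← pow_mul]
    have h2 := hPm.natDegree_map (residue R)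
    rw [h1, Polynomial.natDegree_X_pow] at h2
    rw [h1, h2]
  have hlow : ∀ i < P.natDegree, P.coeff i ∈ maximalIdeal R := fun i hi => by
    rw [← residue_eq_zero_iff, ← Polynomial.coeff_map, hPmap, Polynomial.coeff_X_pow, if_neg hi.ne]
  set D := P.natDegree
  let Msp : Submodule R S := Submodule.span R (Set.range fun i : Fin D => v ^ (i : ℕ))
  have hbase : v ^ D ∈ maximalIdeal R • Msp := by
    have h1 := hPv
    rw [Polynomial.aeval_eq_sum_range, Finset.sum_range_succ, hPm.coeff_natDegree, one_smul] at h1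
    rw [eq_neg_of_add_eq_zero_right h1]
    refine neg_mem (Submodule.sum_mem _ fun i hi => Submodule.smul_mem_smul (hlow i (Finset.mem_range.1 hi)) ?_)
    exact Submodule.subset_span ⟨⟨i, Finset.mem_range.1 hi⟩, rfl⟩
  have hclosed : ∀ (I : Ideal R) (y : S), y ∈ I • Msp → v * y ∈ I • Msp := by
    intro I y hy
    have hM : ∀ y ∈ Msp, v * y ∈ Msp := fun y hy => by
      induction hy using Submodule.span_induction with
      | mem z hz =>
        obtain ⟨i, rfl⟩ := hz
        show v * v ^ (i : ℕ) ∈ Msp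
        rw [← pow_succ']
        by_cases hi : (i : ℕ) + 1 < D
        · exact Submodule.subset_span ⟨⟨_, hi⟩, rfl⟩
        · rw [show (i : ℕ) + 1 = D by omega]
          exact Submodule.smul_le_right hbase
      | zero => rw [mul_zero]; exact zero_mem _
      | add a b _ _ ha hb => rw [mul_add]; exact add_mem ha hb
      | smul a z _ hz => rw [mul_smul_comm]; exact Submodule.smul_mem _ a hz
    refine Submodule.smul_induction_on hy (fun a ha z hz => ?_) (fun a b ha hb => ?_)
    · rw [mul_smul_comm]; exact Submodule.smul_mem_smul ha (hM z hz)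
    · rw [mul_add]; exact add_mem ha hb
  have hpow : ∀ j k, v ^ (D * (j + 1) + k) ∈ maximalIdeal R ^ (j + 1) • Msp := by
    intro j
    induction j with
    | zero =>
      intro k
      induction k with
      | zero => simpa using hbase
      | succ k ih => rw [← add_assoc, pow_succ' v (D * (0 + 1) + k)]; exact hclosed _ _ ih
    | succ j ih =>
      intro k
      have key : ∀ y ∈ maximalIdeal R ^ (j + 1) • Msp, v ^ D * y ∈ maximalIdeal R ^ (j + 1 + 1) • Msp := by
        intro y hy
        refine Submodule.smul_induction_on hy (fun a ha z hz => ?_) (fun a b ha hb => ?_)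
        ·
          rw [mul_smul_comm, pow_succ, Submodule.mul_smul]
          refine Submodule.smul_mem_smul ha ?_
          induction hz using Submodule.span_induction with
          | mem w hw =>
            obtain ⟨i, rfl⟩ := hw
            show v ^ D * v ^ (i : ℕ) ∈ _
            rw [← pow_add]
            generalize (i : ℕ) = n
            induction n with
            | zero => simpa using hbase
            | succ n ihn => rw [← add_assoc, pow_succ' v (D + n)]; exact hclosed _ _ ihn
          | zero => rw [mul_zero]; exact zero_mem _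
          | add a b _ _ ha hb => rw [mul_add]; exact add_mem ha hb
          | smul c w _ hw => rw [mul_smul_comm]; exact Submodule.smul_mem _ c hw
        · rw [mul_add]; exact add_mem ha hb
      have h1 := key _ (ih k)
      rwa [← pow_add, show D + (D * (j + 1) + k) = D * (j + 1 + 1) + k by ring] at h1
  obtain ⟨k, hk⟩ : ∃ k : ℕ, ∀ y ∈ Msp, ∃ b : R, algebraMap R S (f ^ k) * y = algebraMap R S b := by
    choose bc hbc using fun i : Fin D => IsLocalization.surj (Submonoid.powers f) (v ^ (i : ℕ))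
    choose kc hkc using fun i : Fin D => (bc i).2.2
    refine ⟨Finset.univ.sup kc, fun y hy => ?_⟩
    induction hy using Submodule.span_induction with
    | mem w hw =>
      obtain ⟨i, rfl⟩ := hw
      refine ⟨f ^ (Finset.univ.sup kc - kc i) * (bc i).1, ?_⟩
      have hkc' : f ^ kc i = ((bc i).2 : R) := hkc i
      show _ * v ^ (i : ℕ) = _
      rw [map_mul _ _ (bc i).1, ← hbc i, ← hkc']
      conv_lhs => rw [← Nat.sub_add_cancel (Finset.le_sup (f := kc) (Finset.mem_univ i)), pow_add, map_mul]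
      ring
    | zero => exact ⟨0, by rw [mul_zero, map_zero]⟩
    | add a b _ _ ha hb =>
      obtain ⟨a', ha'⟩ := ha
      obtain ⟨b', hb'⟩ := hb
      exact ⟨a' + b', by rw [mul_add, ha', hb', map_add]⟩
    | smul c w _ hw =>
      obtain ⟨w', hw'⟩ := hw
      exact ⟨c * w', by rw [mul_smul_comm, hw', Algebra.smul_def, map_mul]⟩
  obtain ⟨n, hn⟩ := Ideal.exists_pow_le_of_le_radical_of_fg hrad (IsNoetherian.noetherian _)
  obtain ⟨j, hj⟩ : ∃ j, maximalIdeal R ^ (j + 1) ≤ Ideal.span {f ^ (k + 1)} := by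
    refine ⟨n * (k + 1), (Ideal.pow_le_pow_right (Nat.le_succ _)).trans ?_⟩
    rw [pow_mul, ← Ideal.span_singleton_pow]
    exact Ideal.pow_right_mono hn _
  have hD : 0 < D ∨ D = 0 := (Nat.eq_zero_or_pos D).symm
  refine ⟨m₀ * (D * (j + 1) + 1), Nat.mul_pos (Nat.succ_pos _) (Nat.succ_pos _), ?_⟩
  rw [pow_mul, ← hv]
  have hgoal : ∀ y ∈ maximalIdeal R ^ (j + 1) • Msp, ∃ r ∈ maximalIdeal R, y = algebraMap R S r := by
    intro y hy
    refine Submodule.smul_induction_on hy (fun a ha z hz => ?_) (fun a b ha hb => ?_)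
    · obtain ⟨c, rfl⟩ := Ideal.mem_span_singleton'.1 (hj ha)
      obtain ⟨b, hb⟩ := hk z hz
      refine ⟨c * f * b, Ideal.mul_mem_right _ _ (Ideal.mul_mem_left _ _ hf), ?_⟩
      rw [Algebra.smul_def, map_mul _ (c * f) b, ← hb, pow_succ, map_mul, map_mul, map_mul]
      ring
    · obtain ⟨a', ha, rfl⟩ := ha
      obtain ⟨b', hb, rfl⟩ := hb
      exact ⟨a' + b', add_mem ha hb, (map_add _ _ _).symm⟩
  exact hgoal _ (hpow j 1)

end descend

section quotient

variable {R : Type u} [CommRing R] [IsLocalRing R] [IsNoetherianRing R] (p : Ideal R) [p.IsPrime]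

/-- The map to the residue field at a prime. -/
noncomputable abbrev toFrac : R →+* FractionRing (R ⧸ p) := (algebraMap (R ⧸ p) (FractionRing (R ⧸ p))).comp (Ideal.Quotient.mk p)

omit [IsLocalRing R] [IsNoetherianRing R] in
theorem toFrac_eq_zero {x : R} : toFrac p x = 0 ↔ x ∈ p := by
  show algebraMap (R ⧸ p) (FractionRing (R ⧸ p)) (Ideal.Quotient.mk p x) = 0 ↔ _
  rw [map_eq_zero_iff _ (IsFractionRing.injective (R ⧸ p) (FractionRing (R ⧸ p))), Ideal.Quotient.eq_zero_iff_mem]

theorem image_props (hdim : ringKrullDim R = 1) {f : R} (hf : f ∈ maximalIdeal R) (hfp : f ∉ p) :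
    IsFractionRing (toFrac p).range (FractionRing (R ⧸ p)) ∧ IsNoetherianRing (toFrac p).range ∧
      ringKrullDim (toFrac p).range = 1 ∧ Finite (MaximalSpectrum (toFrac p).range) ∧ IsLocalRing (toFrac p).range := by
  have hr : (toFrac p).range = (algebraMap (R ⧸ p) (FractionRing (R ⧸ p))).range := by
    ext x
    constructor
    · rintro ⟨y, rfl⟩; exact ⟨_, rfl⟩
    · rintro ⟨y, rfl⟩
      obtain ⟨y, rfl⟩ := Ideal.Quotient.mk_surjective y
      exact ⟨y, rfl⟩
  let e : (R ⧸ p) ≃+* (toFrac p).range := (RingEquiv.ofBijective (algebraMap (R ⧸ p) (FractionRing (R ⧸ p))).rangeRestrict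
    ⟨fun x y h => IsFractionRing.injective (R ⧸ p) (FractionRing (R ⧸ p)) (congrArg Subtype.val h),
      RingHom.rangeRestrict_surjective _⟩).trans (RingEquiv.subringCongr hr.symm)
  haveI : IsLocalRing (R ⧸ p) := IsLocalRing.of_surjective' _ Ideal.Quotient.mk_surjective
  haveI hloc : IsLocalRing (toFrac p).range := IsLocalRing.of_surjective' e.toRingHom e.surjective
  refine ⟨?_, isNoetherianRing_of_ringEquiv _ e, ?_, ?_, hloc⟩
  · refine IsFractionRing.of_field _ _ fun z => ?_
    obtain ⟨a, d, -, rfl⟩ := IsFractionRing.div_surjective (A := R ⧸ p) z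
    exact ⟨e a, e d, rfl⟩
  · rw [← ringKrullDim_eq_of_ringEquiv e]
    refine le_antisymm ((ringKrullDim_quotient_le _).trans hdim.le) ?_
    have hnf : ¬ IsField (R ⧸ p) := fun hF => hfp (by
      rw [IsLocalRing.eq_maximalIdeal (Ideal.Quotient.maximal_of_isField _ hF)]
      exact hf)
    by_contra hlt
    have h0 : ringKrullDim (R ⧸ p) ≤ 0 := by
      revert hlt
      generalize ringKrullDim (R ⧸ p) = d
      intro hlt
      rcases d with _ | (_ | n)
      · exact bot_le
      · exact absurd le_top hlt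
      · have : n < 1 := by
          by_contra hn
          exact hlt (WithBot.coe_le_coe.2 (WithTop.coe_le_coe.2 (not_lt.1 hn)))
        obtain rfl : n = 0 := by omega
        exact le_rfl
    haveI : Ring.KrullDimLE 0 (R ⧸ p) := Ring.krullDimLE_iff.mpr h0
    exact hnf Ring.KrullDimLE.isField_of_isDomain
  · haveI : Subsingleton (MaximalSpectrum (toFrac p).range) := ⟨fun P Q => MaximalSpectrum.ext
      ((IsLocalRing.eq_maximalIdeal P.isMaximal).trans (IsLocalRing.eq_maximalIdeal Q.isMaximal).symm)⟩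
    infer_instance

omit [IsNoetherianRing R] in
theorem valuation_lt_one [IsFractionRing (toFrac p).range (FractionRing (R ⧸ p))] {f : R}
    (hrad : ∀ q : Ideal R, q.IsPrime → p ≤ q → q ≠ p → f ∈ q)
    {V : ValuationSubring (FractionRing (R ⧸ p))} (hV : V ∈ Ov (toFrac p).range) :
    V.valuation (toFrac p f) < 1 := by
  obtain ⟨⟨d, x, rfl⟩, hd0, hdV⟩ := exists_small hV
  obtain ⟨n, hn⟩ : f ∈ (p ⊔ Ideal.span {x}).radical := by
    rw [Ideal.radical_eq_sInf]
    refine Ideal.mem_sInf.2 ?_
    rintro q ⟨hle, hq⟩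
    refine hrad q hq (le_sup_left.trans hle) fun hqp => hd0 (Subtype.ext ((toFrac_eq_zero p).2 ?_))
    exact hqp ▸ hle (Ideal.mem_sup_right (Ideal.mem_span_singleton_self x))
  obtain ⟨p', hp', y, hy, hsum⟩ := Submodule.mem_sup.1 hn
  obtain ⟨c, rfl⟩ := Ideal.mem_span_singleton'.1 hy
  have h1 : V.valuation (toFrac p f) ^ n < 1 := by
    rw [← map_pow, ← map_pow, ← hsum, map_add, (toFrac_eq_zero p).2 hp', zero_add, map_mul, map_mul]
    calc V.valuation (toFrac p c) * V.valuation (toFrac p x) ≤ 1 * V.valuation (toFrac p x) := by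
          gcongr
          exact (V.valuation_le_one_iff _).mpr (hV.1 ⟨c, rfl⟩)
      _ < 1 := by rw [one_mul]; exact hdV
  by_contra h
  exact h1.not_ge (one_le_pow₀ (not_lt.1 h))

omit [IsNoetherianRing R] in
theorem ne_zero_of_poles [IsFractionRing (toFrac p).range (FractionRing (R ⧸ p))] [IsNoetherianRing (toFrac p).range]
    (hd : ringKrullDim (toFrac p).range = 1) (hs : Finite (MaximalSpectrum (toFrac p).range))
    [IsLocalRing (toFrac p).range] {k : FractionRing (R ⧸ p)} (hk : ∀ V ∈ Ov (toFrac p).range, 1 < V.valuation k) :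
    k ≠ 0 := by
  intro h0
  obtain ⟨c, hc0, hc⟩ := exists_inJac_ne_zero hd hs
  obtain ⟨V, hSV, hPV⟩ := Ideal.image_subset_nonunits_valuationSubring (A := (toFrac p).range)
    (maximalIdeal (toFrac p).range) (Ideal.IsPrime.ne_top inferInstance)
  have hcV : V.valuation (c : FractionRing (R ⧸ p)) < 1 :=
    (ValuationSubring.mem_nonunits_iff _).mp (hPV ⟨_, hc.2 _ (maximalIdeal.isMaximal _), rfl⟩)
  have hV : V ∈ Ov (toFrac p).range := ⟨fun a ha => hSV ha, fun htop => by
    have h2 : V.valuation (c : FractionRing (R ⧸ p))⁻¹ ≤ 1 := by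
      rw [V.valuation_le_one_iff, htop]; exact ValuationSubring.mem_top _
    rw [map_inv₀] at h2
    exact absurd ((one_lt_inv₀ ((Valuation.pos_iff _).mpr fun h0 => hc0 (Subtype.ext h0))).mpr hcV)
      (not_lt.mpr h2)⟩
  have := hk V hV
  rw [h0, map_zero] at this
  exact absurd this (not_lt.2 zero_le)

theorem exists_pow_mod (hd : ringKrullDim (toFrac p).range = 1) (hs : Finite (MaximalSpectrum (toFrac p).range))
    [IsFractionRing (toFrac p).range (FractionRing (R ⧸ p))] [IsNoetherianRing (toFrac p).range]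
    [IsLocalRing (toFrac p).range] {f : R} (S : Type u) [CommRing S] [Algebra R S] [IsLocalization.Away f S]
    (χ : S →+* FractionRing (R ⧸ p)) (hχ : ∀ x, χ (algebraMap R S x) = toFrac p x) (u : S)
    (hu : ∀ V ∈ Ov (toFrac p).range, V.valuation (χ u) < 1) :
    ∃ M : ℕ, ∀ m, M ≤ m → ∃ r ∈ maximalIdeal R, u ^ m - algebraMap R S r ∈ p.map (algebraMap R S) := by
  obtain ⟨M, hM⟩ := exists_pow_inJac hd hs (χ u) hu
  refine ⟨M, fun m hm => ?_⟩
  obtain ⟨⟨x, hx⟩, hJ⟩ := hM m hm
  refine ⟨x, (mem_maximalIdeal _).2 fun hxu => ?_, ?_⟩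
  · refine (maximalIdeal.isMaximal (toFrac p).range).ne_top (Ideal.eq_top_of_isUnit_mem _ (hJ _ (maximalIdeal.isMaximal _)) ?_)
    have : (⟨_, ⟨x, hx⟩⟩ : (toFrac p).range) = (toFrac p).rangeRestrict x := Subtype.ext hx.symm
    rw [this]
    exact hxu.map _
  · obtain ⟨⟨a, s⟩, has⟩ := IsLocalization.surj (Submonoid.powers f) (u ^ m - algebraMap R S x)
    have h0 : toFrac p a = 0 := by
      rw [← hχ, ← show _ = algebraMap R S a from has, map_mul, map_sub, map_pow, hχ x, hx, sub_self, zero_mul]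
    refine (Ideal.unit_mul_mem_iff_mem _ (IsLocalization.map_units S s)).1 ?_
    rw [mul_comm]
    exact (show _ = algebraMap R S a from has).symm ▸ Ideal.mem_map_of_mem _ ((toFrac_eq_zero p).1 h0)

end quotient

/-- A function with poles at finitely many one-dimensional points, inverted inside them. -/
theorem exists_inverse_mem {A : Type u} [CommRing A] {ι : Type u} [Finite ι] (R : ι → Type u) [∀ i, CommRing (R i)]
    [∀ i, IsLocalRing (R i)] [∀ i, IsNoetherianRing (R i)] (hdim : ∀ i, ringKrullDim (R i) = 1)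
    (f : ∀ i, R i) (hf : ∀ i, f i ∈ maximalIdeal (R i)) (hfp : ∀ i, ∀ p ∈ minimalPrimes (R i), f i ∉ p)
    (S : ι → Type u) [∀ i, CommRing (S i)] [∀ i, Algebra (R i) (S i)] [∀ i, IsLocalization.Away (f i) (S i)]
    (ψ : ∀ i, A →+* S i)
    (hgen : ∀ i, IsLocalization.Away.invSelf (f i) ∈
      Subring.closure (Set.range (ψ i) ∪ Set.range (algebraMap (R i) (S i)))) :
    ∃ h : A, ∀ i, ∃ r ∈ maximalIdeal (R i), ψ i h * algebraMap (R i) (S i) r = 1 := by
  classical
  have hmax : ∀ i (q : Ideal (R i)), q.IsPrime → q ∉ minimalPrimes (R i) → q = maximalIdeal (R i) := by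
    intro i q hq hqm
    haveI : Ring.KrullDimLE 1 (R i) := Ring.krullDimLE_iff.mpr (hdim i).le
    haveI := ((Ring.krullDimLE_one_iff.mp inferInstance) q hq).resolve_left hqm
    exact eq_maximalIdeal inferInstance
  have hmin : ∀ i (q : Ideal (R i)), q.IsPrime → f i ∉ q → q ∈ minimalPrimes (R i) := fun i q hq hfq => by
    by_contra hqm
    exact hfq (hmax i q hq hqm ▸ hf i)
  have hrad : ∀ i, maximalIdeal (R i) ≤ (Ideal.span {f i}).radical := fun i => by
    rw [Ideal.radical_eq_sInf]
    refine le_sInf fun q hq => (hmax i q hq.2 fun hqm => hfp i q hqm (hq.1 (Ideal.mem_span_singleton_self _))).ge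
  haveI : ∀ i, Finite (minimalPrimes (R i)) := fun i => (minimalPrimes.finite_of_isNoetherianRing (R i)).to_subtype
  haveI hJp : ∀ b : Σ i, minimalPrimes (R i), b.2.1.IsPrime := fun b => Ideal.minimalPrimes_isPrime b.2.2
  have hunit₀ : ∀ b : Σ i, minimalPrimes (R i), IsUnit (toFrac b.2.1 (f b.1)) := fun b =>
    isUnit_iff_ne_zero.2 fun h0 => hfp b.1 _ b.2.2 ((toFrac_eq_zero _).1 h0)
  let χ : ∀ b : Σ i, minimalPrimes (R i), S b.1 →+* FractionRing (R b.1 ⧸ b.2.1) := fun b =>
    IsLocalization.Away.lift (f b.1) (hunit₀ b)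
  have hχ : ∀ b x, χ b (algebraMap (R b.1) (S b.1) x) = toFrac b.2.1 x := fun b x => IsLocalization.Away.lift_eq _ _ _
  have hB := fun b : Σ i, minimalPrimes (R i) => image_props b.2.1 (hdim b.1) (hf b.1) (hfp b.1 _ b.2.2)
  haveI : ∀ b : Σ i, minimalPrimes (R i), Finite (Ov (toFrac b.2.1).range) := fun b => by
    haveI := (hB b).1
    haveI := (hB b).2.1
    exact (finite_Ov (hB b).2.2.1 (hB b).2.2.2.1).to_subtype
  obtain ⟨h₀, hh₀⟩ := exists_pole (fun c : (Σ b : Σ i, minimalPrimes (R i), Ov (toFrac b.2.1).range) =>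
      FractionRing (R c.1.1 ⧸ c.1.2.1)) (fun c => (χ c.1).comp (ψ c.1.1)) (fun c => c.2.1) (by
    rintro ⟨b, V, hV⟩
    haveI := (hB b).1
    by_contra hcon
    push Not at hcon
    have hle : Subring.closure (Set.range (ψ b.1) ∪ Set.range (algebraMap (R b.1) (S b.1))) ≤
        V.toSubring.comap (χ b) := Subring.closure_le.2 (by
      rintro _ (⟨a, rfl⟩ | ⟨x, rfl⟩)
      · exact (V.valuation_le_one_iff _).mp (hcon a)
      · show χ b _ ∈ V
        rw [hχ]
        exact hV.1 ⟨x, rfl⟩)
    have hinv : V.valuation (χ b (IsLocalization.Away.invSelf (f b.1))) ≤ 1 :=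
      (V.valuation_le_one_iff _).mpr (hle (hgen b.1))
    have hone : V.valuation (toFrac b.2.1 (f b.1)) * V.valuation (χ b (IsLocalization.Away.invSelf (f b.1))) = 1 := by
      rw [← map_mul, ← hχ, ← map_mul, IsLocalization.Away.mul_invSelf, map_one, map_one]
    have hlt := valuation_lt_one b.2.1 (fun q hq hpq hne => by
      rw [hmax b.1 q hq fun hqm => hne (le_antisymm (hqm.2 ⟨hJp b, bot_le⟩ hpq) hpq)]
      exact hf b.1) hV
    refine (lt_irrefl (1 : V.ValueGroup)) ?_
    calc (1 : V.ValueGroup) = _ := hone.symm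
      _ ≤ V.valuation (toFrac b.2.1 (f b.1)) * 1 := by gcongr
      _ < 1 := by rw [mul_one]; exact hlt)
  have hne : ∀ b : Σ i, minimalPrimes (R i), χ b (ψ b.1 h₀) ≠ 0 := fun b => by
    haveI := (hB b).1
    haveI := (hB b).2.1
    haveI := (hB b).2.2.2.2
    exact ne_zero_of_poles b.2.1 (hB b).2.2.1 (hB b).2.2.2.1 fun V hV => hh₀ ⟨b, V, hV⟩
  have hunit : ∀ i, IsUnit (ψ i h₀) := fun i => by
    by_contra hu
    obtain ⟨Q, hQ, hhQ⟩ := exists_max_ideal_of_mem_nonunits hu
    haveI := hQ
    have hfQ : f i ∉ Q.comap (algebraMap (R i) (S i)) := fun hfQ => hQ.ne_top (Ideal.eq_top_of_isUnit_mem _ hfQ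
      (IsLocalization.Away.algebraMap_isUnit (f i)))
    let b : Σ i, minimalPrimes (R i) := ⟨i, _, hmin i _ inferInstance hfQ⟩
    obtain ⟨⟨a, s⟩, has⟩ := IsLocalization.surj (Submonoid.powers (f i)) (ψ i h₀)
    have ha : a ∈ b.2.1 := by
      show algebraMap (R i) (S i) a ∈ Q
      rw [← has]
      exact Ideal.mul_mem_right _ _ hhQ
    refine hne b ((((IsLocalization.map_units (S i) s).map (χ b)).mul_left_eq_zero).1 ?_)
    rw [← map_mul]
    exact (congrArg (χ b) has).trans ((hχ b a).trans ((toFrac_eq_zero _).2 ha))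
  have key : ∀ i, ∃ N, 0 < N ∧ ∃ r ∈ maximalIdeal (R i), (↑(hunit i).unit⁻¹ : S i) ^ N = algebraMap (R i) (S i) r := by
    refine fun i => exists_pow_mem_maximalIdeal (S i) (hf i) (hrad i) (hmin i) _ fun p hp => ?_
    haveI := hJp ⟨i, p, hp⟩
    obtain ⟨h1, h2, h3, h4, h5⟩ := hB ⟨i, p, hp⟩
    haveI := h1
    haveI := h2
    haveI := h5
    refine exists_pow_mod p h3 h4 (f := f i) (S i) (χ ⟨i, p, hp⟩) (hχ ⟨i, p, hp⟩) _ fun V hV => ?_
    have hinv : χ ⟨i, p, hp⟩ (↑(hunit i).unit⁻¹ : S i) = (χ ⟨i, p, hp⟩ (ψ i h₀))⁻¹ := by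
      refine eq_inv_of_mul_eq_one_left ?_
      rw [← map_mul, (hunit i).val_inv_mul, map_one]
    rw [hinv, map_inv₀]
    exact inv_lt_one_of_one_lt₀ (hh₀ ⟨⟨i, p, hp⟩, V, hV⟩)
  choose N hN r hr hNr using key
  haveI := Fintype.ofFinite ι
  refine ⟨h₀ ^ ∏ i, N i, fun i => ⟨r i ^ ((∏ j, N j) / N i), Ideal.pow_mem_of_mem _ (hr i) _
    (Nat.div_pos (Nat.le_of_dvd (Finset.prod_pos fun j _ => hN j) (Finset.dvd_prod_of_mem N (Finset.mem_univ i))) (hN i)), ?_⟩⟩
  rw [map_pow, map_pow, ← hNr, ← pow_mul, Nat.mul_div_cancel' (Finset.dvd_prod_of_mem N (Finset.mem_univ i)),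
    ← mul_pow, (hunit i).mul_val_inv, one_pow]

end Groth.Agent.CurveGlueLib
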